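import Groth.Agent.E4O.DimField
import Mathlib
import Groth.Prelude.Def_Flat

/-!
# Local dimension of the spectrum of a finite type algebra over a field

`dimAt k p` is the maximum, over the minimal primes `P ≤ p`, of `trdeg_k (S ⧸ P)`.
-/

set_option autoImplicit false
set_option linter.style.haveILetI false
set_option linter.style.longLine false
universe u

namespace Groth.Agent.CAlgH2

section General

variable {S : Type u} [CommRing S]

theorem height_map_quotient_le (P q : Ideal S) [q.IsPrime] (h : P ≤ q) :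
    (q.map (Ideal.Quotient.mk P)).height ≤ q.height := by
  haveI := Ideal.isPrime_map_quotientMk_of_isPrime h
  have hc : (q.map (Ideal.Quotient.mk P)).comap (Ideal.Quotient.mk P) = q := by
    rw [Ideal.comap_map_quotientMk, sup_eq_right.mpr h]
  let g : PrimeSpectrum (S ⧸ P) → PrimeSpectrum S := PrimeSpectrum.comap (Ideal.Quotient.mk P)
  have hg : StrictMono g := Monotone.strictMono_of_injective (fun a b hab => Ideal.comap_mono hab)
    (PrimeSpectrum.comap_injective_of_surjective _ Ideal.Quotient.mk_surjective)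
  have h1 := Order.height_le_height_apply_of_strictMono g hg (⟨q.map (Ideal.Quotient.mk P), inferInstance⟩ : PrimeSpectrum (S ⧸ P))
  rw [show g ⟨q.map (Ideal.Quotient.mk P), inferInstance⟩ = ⟨q, inferInstance⟩ from PrimeSpectrum.ext hc,
    ← PrimeSpectrum.height_eq_orderHeight, ← PrimeSpectrum.height_eq_orderHeight] at h1
  exact h1

theorem height_le_of_forall_minimalPrimes (q : Ideal S) [q.IsPrime] (c : ℕ∞)
    (h : ∀ P ∈ minimalPrimes S, P ≤ q → (q.map (Ideal.Quotient.mk P)).height ≤ c) : q.height ≤ c := by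
  rw [show q.height = Order.height (⟨q, inferInstance⟩ : PrimeSpectrum S) from PrimeSpectrum.height_eq_orderHeight ⟨q, inferInstance⟩]
  refine Order.height_le fun l hl => ?_
  obtain ⟨P, hP, hPl⟩ := Ideal.exists_minimalPrimes_le (I := (⊥ : Ideal S)) (J := l.head.asIdeal) bot_le
  have hall : ∀ i, P ≤ (l i).asIdeal := fun i => hPl.trans (l.monotone (Fin.zero_le i))
  have hlq : l.last.asIdeal = q := congrArg PrimeSpectrum.asIdeal hl
  have hPq : P ≤ q := hlq ▸ hall (Fin.last _)
  refine le_trans ?_ (h P hP hPq)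
  haveI := Ideal.isPrime_map_quotientMk_of_isPrime hPq
  let l' : LTSeries (PrimeSpectrum (S ⧸ P)) := LTSeries.mk l.length
    (fun i => ⟨(l i).asIdeal.map (Ideal.Quotient.mk P), Ideal.isPrime_map_quotientMk_of_isPrime (hall i)⟩)
    (fun i j hij => by
      refine lt_of_le_of_ne (Ideal.map_mono (l.strictMono hij).le) fun he => (l.strictMono hij).ne ?_
      have := congrArg (fun z : PrimeSpectrum (S ⧸ P) => z.asIdeal.comap (Ideal.Quotient.mk P)) he
      simp only [Ideal.comap_map_quotientMk, sup_eq_right.mpr (hall _)] at this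
      exact PrimeSpectrum.ext this)
  rw [show (q.map (Ideal.Quotient.mk P)).height = Order.height (⟨_, inferInstance⟩ : PrimeSpectrum (S ⧸ P)) from
    PrimeSpectrum.height_eq_orderHeight ⟨q.map (Ideal.Quotient.mk P), inferInstance⟩]
  refine Order.length_le_height (p := l') ?_
  show (l'.toFun (Fin.last _)).asIdeal ≤ q.map (Ideal.Quotient.mk P)
  exact Ideal.map_mono hlq.le

theorem ringKrullDim_away_eq_topologicalKrullDim (g : S) :
    topologicalKrullDim (PrimeSpectrum.basicOpen g : Set (PrimeSpectrum S)) =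
      ringKrullDim (Localization.Away g) := by
  let e := (PrimeSpectrum.localization_away_isOpenEmbedding (Localization.Away g) g).isEmbedding.toHomeomorph
  rw [← PrimeSpectrum.topologicalKrullDim_eq_ringKrullDim, IsHomeomorph.topologicalKrullDim_eq _ e.isHomeomorph,
    PrimeSpectrum.localization_away_comap_range (Localization.Away g) g]

end General

section Field

variable (k : Type u) [Field k] {S : Type u} [CommRing S] [Algebra k S]

/-- The transcendence degree of `S ⧸ P` over `k`, as a natural number. -/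
noncomputable def trdegQuot (P : Ideal S) : ℕ := Cardinal.toNat (Algebra.trdeg k (S ⧸ P))

/-- The maximum of `trdeg_k (S ⧸ P)` over minimal primes `P ≤ p`. -/
noncomputable def dimAt (p : Ideal S) : ℕ := sSup (trdegQuot k '' {P | P ∈ minimalPrimes S ∧ P ≤ p})

variable [Algebra.FiniteType k S]
include k

theorem height_add_trdegQuot (P q : Ideal S) [P.IsPrime] [q.IsPrime] (h : P ≤ q) :
    (q.map (Ideal.Quotient.mk P)).height + trdegQuot k q = trdegQuot k P := by
  haveI := Ideal.isPrime_map_quotientMk_of_isPrime h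
  haveI : Algebra.FiniteType k (S ⧸ P) :=
    Algebra.FiniteType.of_surjective (Ideal.Quotient.mkₐ k P) Ideal.Quotient.mk_surjective
  haveI : Algebra.FiniteType k (S ⧸ q) :=
    Algebra.FiniteType.of_surjective (Ideal.Quotient.mkₐ k q) Ideal.Quotient.mk_surjective
  have h1 := E4O.height_add_trdeg_eq k (S ⧸ P) (q.map (Ideal.Quotient.mk P))
  have e : Algebra.trdeg k ((S ⧸ P) ⧸ q.map (Ideal.Quotient.mk P)) = Algebra.trdeg k (S ⧸ q) :=
    (DoubleQuot.quotQuotEquivQuotOfLEₐ k h).trdeg_eq
  rw [e, E4O.trdeg_eq_natCast k (S ⧸ q), E4O.trdeg_eq_natCast k (S ⧸ P)] at h1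
  refine Cardinal.ofENat_injective ?_
  rw [Cardinal.ofENat_add, Cardinal.ofENat_nat, Cardinal.ofENat_nat]
  exact h1

theorem finite_minimalPrimes_le (p : Ideal S) : {P | P ∈ minimalPrimes S ∧ P ≤ p}.Finite :=
  haveI := Algebra.FiniteType.isNoetherianRing k S
  (minimalPrimes.finite_of_isNoetherianRing S).subset fun _ h => h.1

theorem trdegQuot_le_dimAt {P p : Ideal S} (hP : P ∈ minimalPrimes S) (h : P ≤ p) :
    trdegQuot k P ≤ dimAt k p :=
  le_csSup ((finite_minimalPrimes_le k p).image _).bddAbove ⟨P, ⟨hP, h⟩, rfl⟩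

theorem dimAt_le {p : Ideal S} {n : ℕ} (h : ∀ P ∈ minimalPrimes S, P ≤ p → trdegQuot k P ≤ n) :
    dimAt k p ≤ n :=
  csSup_le' (by rintro _ ⟨P, ⟨hP, hPp⟩, rfl⟩; exact h P hP hPp)

theorem exists_dimAt_eq (p : Ideal S) [p.IsPrime] :
    ∃ P ∈ minimalPrimes S, P ≤ p ∧ dimAt k p = trdegQuot k P := by
  obtain ⟨P₀, hP₀, hle₀⟩ := Ideal.exists_minimalPrimes_le (I := (⊥ : Ideal S)) (J := p) bot_le
  obtain ⟨P, ⟨hP, hle⟩, he⟩ := Nat.sSup_mem (s := trdegQuot k '' {P | P ∈ minimalPrimes S ∧ P ≤ p})
    ⟨_, P₀, ⟨hP₀, hle₀⟩, rfl⟩ ((finite_minimalPrimes_le k p).image _).bddAbove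
  exact ⟨P, hP, hle, he.symm⟩

theorem height_add_trdegQuot_eq_dimAt (p : Ideal S) [p.IsPrime] :
    p.height + trdegQuot k p = dimAt k p := by
  obtain ⟨P, hP, hle, he⟩ := exists_dimAt_eq k p
  haveI := hP.1.1
  have hr : trdegQuot k p ≤ trdegQuot k P := by
    exact_mod_cast (le_add_self).trans_eq (height_add_trdegQuot k P p hle)
  refine le_antisymm ?_ ?_
  · have hc : p.height ≤ ((dimAt k p - trdegQuot k p : ℕ) : ℕ∞) := by
      refine height_le_of_forall_minimalPrimes p _ fun P' hP' hle' => ?_
      haveI := hP'.1.1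
      have h1 := height_add_trdegQuot k P' p hle'
      have h2 := trdegQuot_le_dimAt k hP' hle'
      generalize (p.map (Ideal.Quotient.mk P')).height = t at h1
      cases t with
      | top => simp at h1
      | coe t =>
        have : t + trdegQuot k p = trdegQuot k P' := by exact_mod_cast h1
        exact_mod_cast (by omega : t ≤ dimAt k p - trdegQuot k p)
    calc p.height + trdegQuot k p ≤ ((dimAt k p - trdegQuot k p : ℕ) : ℕ∞) + trdegQuot k p :=
          add_le_add_left hc _
      _ = dimAt k p := by exact_mod_cast Nat.sub_add_cancel (he ▸ hr)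
  · rw [he, ← height_add_trdegQuot k P p hle]
    exact add_le_add_left (height_map_quotient_le P p hle) _

theorem trdegQuot_maximal (m : Ideal S) [m.IsMaximal] : trdegQuot k m = 0 := by
  rw [trdegQuot, E4O.trdeg_quotient_maximal k S m, map_zero]

theorem height_maximal_eq_dimAt (m : Ideal S) [m.IsMaximal] : m.height = dimAt k m := by
  have := height_add_trdegQuot_eq_dimAt k m
  rwa [trdegQuot_maximal, Nat.cast_zero, add_zero] at this

theorem dimAt_mono {p q : Ideal S} (h : p ≤ q) : dimAt k p ≤ dimAt k q :=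
  dimAt_le k fun _ hP hle => trdegQuot_le_dimAt k hP (hle.trans h)

theorem exists_notMem_forall (p : Ideal S) [p.IsPrime] :
    ∃ g, g ∉ p ∧ ∀ P ∈ minimalPrimes S, g ∉ P → P ≤ p := by
  haveI := Algebra.FiniteType.isNoetherianRing k S
  classical
  let T := (minimalPrimes.finite_of_isNoetherianRing S).toFinset.filter fun P => ¬ P ≤ p
  have : ¬ T.inf id ≤ p := by
    intro hle
    obtain ⟨P, hP, hPp⟩ := (Ideal.IsPrime.inf_le' inferInstance).1 hle
    exact (Finset.mem_filter.1 hP).2 hPp
  obtain ⟨g, hg, hgp⟩ := SetLike.not_le_iff_exists.1 this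
  refine ⟨g, hgp, fun P hP hgP => ?_⟩
  by_contra hPp
  exact hgP ((Finset.inf_le (f := id) (Finset.mem_filter.2 ⟨(minimalPrimes.finite_of_isNoetherianRing S).mem_toFinset.2 hP, hPp⟩) : T.inf id ≤ P) hg)

theorem exists_maximal_notMem (p : Ideal S) [p.IsPrime] {g : S} (hg : g ∉ p) :
    ∃ m : Ideal S, m.IsMaximal ∧ p ≤ m ∧ g ∉ m := by
  haveI : IsJacobsonRing S := isJacobsonRing_of_finiteType (A := k) (B := S)
  rw [← IsJacobsonRing.out inferInstance (Ideal.IsPrime.isRadical (inferInstance : p.IsPrime)), Ideal.jacobson,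
    Submodule.mem_sInf] at hg
  push Not at hg
  obtain ⟨m, ⟨hpm, hm⟩, hgm⟩ := hg
  exact ⟨m, hm, hpm, hgm⟩

theorem localDim_eq_dimAt (p : Ideal S) [p.IsPrime] :
    FlatMor.localDim (PrimeSpectrum S) ⟨p, inferInstance⟩ = ((dimAt k p : ℕ∞) : WithBot ℕ∞) := by
  haveI := Algebra.FiniteType.isNoetherianRing k S
  refine le_antisymm ?_ (le_iInf fun U => ?_)
  · obtain ⟨g, hgp, hg⟩ := exists_notMem_forall k p
    refine (iInf_le (fun U : {U : TopologicalSpace.Opens (PrimeSpectrum S) // _ ∈ U} => topologicalKrullDim (U.1 : Set (PrimeSpectrum S)))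
      ⟨PrimeSpectrum.basicOpen g, hgp⟩).trans ?_
    rw [ringKrullDim_away_eq_topologicalKrullDim]
    refine (ringKrullDim_le_iff_isMaximal_height_le _).2 fun M hM => ?_
    haveI := hM.isPrime
    set q := M.under S
    haveI : q.IsPrime := inferInstanceAs (M.under S).IsPrime
    have hgq : g ∉ q := fun h => hM.ne_top (Ideal.eq_top_of_isUnit_mem _ h
      (IsLocalization.Away.algebraMap_isUnit g))
    have : M.height ≤ (dimAt k p : ℕ∞) := by
      rw [← IsLocalization.height_under (Submonoid.powers g) M]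
      refine height_le_of_forall_minimalPrimes q _ fun P hP hPq => ?_
      haveI := hP.1.1
      exact ((le_self_add).trans (height_add_trdegQuot k P q hPq).le).trans
        (Nat.cast_le.2 (trdegQuot_le_dimAt k hP (hg P hP fun h => hgq (hPq h))))
    exact_mod_cast this
  · obtain ⟨_, ⟨g, rfl⟩, hgp, hgU⟩ := PrimeSpectrum.isTopologicalBasis_basic_opens.exists_subset_of_mem_open U.2 U.1.isOpen
    obtain ⟨m, hm, hpm, hgm⟩ := exists_maximal_notMem k p hgp
    refine le_trans ?_ (Topology.IsInducing.topologicalKrullDim_le (f := Set.inclusion hgU)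
      (Topology.IsEmbedding.inclusion hgU).isInducing)
    rw [ringKrullDim_away_eq_topologicalKrullDim]
    have hd : Disjoint (Submonoid.powers g : Set S) m := by
      rw [Set.disjoint_left]
      rintro _ ⟨n, rfl⟩ h
      exact hgm (hm.isPrime.mem_of_pow_mem n h)
    have hu : (m.map (algebraMap S (Localization.Away g))).under S = m :=
      IsLocalization.under_map_of_isPrime_disjoint (Submonoid.powers g) _ hm.isPrime hd
    have hne : m.map (algebraMap S (Localization.Away g)) ≠ ⊤ :=
      (IsLocalization.isPrime_of_isPrime_disjoint (Submonoid.powers g) _ m hm.isPrime hd).ne_top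
    refine le_trans ?_ (Ideal.height_le_ringKrullDim_of_ne_top hne)
    rw [← IsLocalization.height_under (Submonoid.powers g) (m.map (algebraMap S (Localization.Away g))), hu,
      height_maximal_eq_dimAt k m]
    exact_mod_cast dimAt_mono k hpm

theorem trdeg_residueField (p : Ideal S) [p.IsPrime] :
    Algebra.trdeg k p.ResidueField = Algebra.trdeg k (S ⧸ p) := by
  haveI : Algebra.IsAlgebraic (S ⧸ p) p.ResidueField := IsLocalization.isAlgebraic _ (nonZeroDivisors (S ⧸ p))
  haveI : FaithfulSMul (S ⧸ p) p.ResidueField :=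
    (faithfulSMul_iff_algebraMap_injective _ _).2 (IsFractionRing.injective _ _)
  rw [← trdeg_add_eq k (S ⧸ p) (A := p.ResidueField), trdeg_eq_zero (R := S ⧸ p), add_zero]

end Field

end Groth.Agent.CAlgH2
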