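import Mathlib
import Groth.Prelude.Def_Found
import Groth.Agent.CAlg5.NFinite

namespace Groth.Agent.CAlgH2

open TensorProduct

set_option linter.style.haveILetI false

universe u

variable {A B K' : Type u} [CommRing A] [IsDomain A] [CommRing B] [Algebra A B] [Field K']
  [Algebra A K'] [Algebra (FractionRing A) K'] [IsScalarTower A (FractionRing A) K']
  [FiniteDimensional (FractionRing A) K']

/-- Finite subalgebras with full fraction field. -/
def FullFinite (C : Subalgebra A K') : Prop :=
  Module.Finite A C ∧ ∀ x : K', ∃ a b : C, (b : K') ≠ 0 ∧ x * b = a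

theorem algebraMap_K'_injective : Function.Injective (algebraMap A K') := by
  rw [IsScalarTower.algebraMap_eq A (FractionRing A) K']
  exact (algebraMap (FractionRing A) K').injective.comp (IsFractionRing.injective A _)

theorem exists_fullFinite : ∃ C : Subalgebra A K', FullFinite C := by
  classical
  let b := Module.finBasis (FractionRing A) K'
  obtain ⟨y, hy, hint⟩ := exists_integral_multiples A (FractionRing A) (Finset.univ.image b)
  let s : Set K' := Set.range fun i => y • b i
  refine ⟨Algebra.adjoin A s, ?_, fun x => ?_⟩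
  · refine Algebra.finite_adjoin_of_finite_of_isIntegral (Set.finite_range _) ?_
    rintro _ ⟨i, rfl⟩
    exact hint _ (Finset.mem_image_of_mem b (Finset.mem_univ i))
  · obtain ⟨⟨d, hd⟩, ha⟩ := IsLocalization.exist_integer_multiples (nonZeroDivisors A) Finset.univ
      (fun i => b.repr x i)
    choose a ha using fun i => ha i (Finset.mem_univ i)
    have hmem : (d * y) • x ∈ Algebra.adjoin A s := by
      have h1 : (d * y) • x = ∑ i, a i • (y • b i) := by
        conv_lhs => rw [← b.sum_repr x]
        rw [Finset.smul_sum]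
        refine Finset.sum_congr rfl fun i _ => ?_
        rw [← algebraMap_smul (FractionRing A) (a i) (y • b i), ha i]
        show _ = (d • b.repr x i) • (y • b i)
        rw [smul_assoc, smul_comm (b.repr x i) y, mul_smul]
      rw [h1]
      exact Subalgebra.sum_mem _ fun i _ => Subalgebra.smul_mem _
        (show y • b i ∈ Algebra.adjoin A s from Algebra.subset_adjoin (Set.mem_range_self i)) _
    refine ⟨⟨(d * y) • x, hmem⟩, algebraMap A (Algebra.adjoin A s) (d * y), ?_, ?_⟩
    · show algebraMap A K' (d * y) ≠ 0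
      exact (map_ne_zero_iff _ algebraMap_K'_injective).2 (mul_ne_zero (nonZeroDivisors.ne_zero hd) hy)
    · show x * algebraMap A K' (d * y) = (d * y) • x
      rw [Algebra.smul_def, mul_comm]

theorem FullFinite.sup {C D : Subalgebra A K'} (hC : FullFinite C) (hD : Module.Finite A D) :
    FullFinite (C ⊔ D) := by
  haveI := hC.1
  haveI := hD
  refine ⟨Subalgebra.finite_sup C D, fun x => ?_⟩
  obtain ⟨a, b, hb, h⟩ := hC.2 x
  exact ⟨⟨a, (le_sup_left : C ≤ C ⊔ D) a.2⟩, ⟨b, (le_sup_left : C ≤ C ⊔ D) b.2⟩, hb, h⟩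

/-- `B ⊗ C → B ⊗ K'`. -/
noncomputable def toTot (C : Subalgebra A K') : B ⊗[A] C →ₐ[B] B ⊗[A] K' :=
  Algebra.TensorProduct.map (AlgHom.id B B) C.val

theorem toTot_injective [Module.Flat A B] (C : Subalgebra A K') :
    Function.Injective (toTot (B := B) C) := by
  have h : (toTot (B := B) C : _ → _) = (C.val.toLinearMap).lTensor B := by
    ext x
    induction x using TensorProduct.induction_on with
    | zero => simp
    | tmul a b => simp [toTot]
    | add a b ha hb => simp [map_add, ha, hb]
  rw [h]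
  exact Module.Flat.lTensor_preserves_injective_linearMap _ Subtype.val_injective

variable [IsNoetherianRing B] [Module.Flat A B]

instance : IsNoetherianRing (B ⊗[A] K') := by
  haveI : Algebra.EssFiniteType A (FractionRing A) :=
    .of_isLocalization _ (nonZeroDivisors A)
  haveI : Algebra.EssFiniteType A K' := Algebra.EssFiniteType.comp A (FractionRing A) K'
  exact Algebra.EssFiniteType.isNoetherianRing B _

theorem flat_tot : Module.Flat B (B ⊗[A] K') := by
  haveI : Module.Flat A (FractionRing A) := IsLocalization.flat _ (nonZeroDivisors A)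
  haveI : Module.Flat A K' := Module.Flat.trans A (FractionRing A) K'
  infer_instance

theorem comap_mem_minimalPrimes {P : Ideal (B ⊗[A] K')} (hP : P ∈ minimalPrimes (B ⊗[A] K')) :
    P.comap (algebraMap B (B ⊗[A] K')) ∈ minimalPrimes B := by
  haveI : P.IsPrime := hP.1.1
  haveI := flat_tot (A := A) (B := B) (K' := K')
  haveI : Algebra.HasGoingDown B (B ⊗[A] K') := inferInstance
  refine ⟨⟨inferInstance, bot_le⟩, fun p hp hle => ?_⟩
  haveI := hp.1
  haveI : P.LiesOver (P.comap (algebraMap B (B ⊗[A] K'))) := ⟨rfl⟩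
  obtain ⟨Q, hQle, hQp, hQl⟩ := Ideal.exists_ideal_le_liesOver_of_le (p := p)
    (q := P.comap (algebraMap B (B ⊗[A] K'))) P hle
  have : Q = P := le_antisymm hQle (hP.2 ⟨hQp, bot_le⟩ hQle)
  rw [this] at hQl
  exact (hQl.over).ge

/-- The residue field at a prime of the total algebra. -/
abbrev κ (P : Ideal (B ⊗[A] K')) [P.IsPrime] := P.ResidueField

theorem finite_integralClosure_residueField
    (hJ : ∀ (q : Ideal B) [q.IsPrime], q ∈ minimalPrimes B → CAlg.IsN2 (B ⧸ q))
    (P : Ideal (B ⊗[A] K')) [P.IsPrime] (hP : P ∈ minimalPrimes (B ⊗[A] K')) :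
    Module.Finite B (integralClosure B P.ResidueField) := by
  classical
  let T := B ⊗[A] K'
  let L := P.ResidueField
  let q := P.comap (algebraMap B T)
  have hq := comap_mem_minimalPrimes hP
  haveI : q.IsPrime := inferInstance
  let j : B ⧸ q →+* L := Ideal.Quotient.lift q (algebraMap B L) fun b hb => by
    rw [IsScalarTower.algebraMap_apply B T L, Ideal.algebraMap_residueField_eq_zero]
    exact hb
  letI : Algebra (B ⧸ q) L := j.toAlgebra
  haveI : IsScalarTower B (B ⧸ q) L := .of_algebraMap_eq fun _ => rfl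
  have hj : Function.Injective j := by
    refine RingHom.lift_injective_of_ker_le_ideal _ _ fun b hb => ?_
    rw [RingHom.mem_ker, IsScalarTower.algebraMap_apply B T L,
      Ideal.algebraMap_residueField_eq_zero] at hb
    exact hb
  let F := FractionRing (B ⧸ q)
  letI : Algebra F L := (IsFractionRing.lift hj).toAlgebra
  haveI : IsScalarTower (B ⧸ q) F L := .of_algebraMap_eq fun x => by
    rw [RingHom.algebraMap_toAlgebra (IsFractionRing.lift hj), IsFractionRing.lift_algebraMap]
    rfl
  obtain ⟨C, hCfin, hCfull⟩ := exists_fullFinite (A := A) (K' := K')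
  haveI := hCfin
  obtain ⟨s, hs⟩ := (Module.finite_def.1 hCfin)
  let θ : T →+* L := algebraMap T L
  let g : C → L := fun c => θ ((1 : B) ⊗ₜ[A] (c : K'))
  let E : IntermediateField F L := IntermediateField.adjoin F (g '' (s : Set C))
  haveI : FiniteDimensional F E := by
    haveI := (s.finite_toSet.image g).to_subtype
    refine IntermediateField.finiteDimensional_adjoin ?_
    rintro _ ⟨c, hc, rfl⟩
    have h1 : IsIntegral A (c : K') := (IsIntegral.of_finite A c).map C.val
    have h2 : IsIntegral B ((1 : B) ⊗ₜ[A] (c : K') : T) :=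
      (h1.map (Algebra.TensorProduct.includeRight : K' →ₐ[A] T)).tower_top
    have h3 : IsIntegral B (g c) := h2.map (IsScalarTower.toAlgHom B T L)
    exact (h3.tower_top (A := B ⧸ q)).tower_top
  have hBE : ∀ b : B, θ (algebraMap B T b) ∈ E := fun b => by
    have h1 : θ (algebraMap B T b) = algebraMap F L (algebraMap (B ⧸ q) F (Ideal.Quotient.mk q b)) := by
      rw [← IsScalarTower.algebraMap_apply (B ⧸ q) F L]
      exact (IsScalarTower.algebraMap_apply B T L b).symm
    rw [h1]
    exact E.algebraMap_mem _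
  have hCE : ∀ c : C, g c ∈ E := fun c => by
    have hc : c ∈ Submodule.span A (s : Set C) := hs ▸ Submodule.mem_top
    induction hc using Submodule.span_induction with
    | mem x hx => exact IntermediateField.subset_adjoin _ _ ⟨x, hx, rfl⟩
    | zero => simp [g]
    | add x y _ _ hx hy =>
        have : g (x + y) = g x + g y := by simp [g, TensorProduct.tmul_add]
        rw [this]; exact E.add_mem hx hy
    | smul a x _ hx =>
        have : g (a • x) = θ (algebraMap B T (algebraMap A B a)) * g x := by
          show θ _ = _ * θ _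
          rw [← map_mul]
          congr 1
          simp [Algebra.TensorProduct.algebraMap_apply, Algebra.algebraMap_eq_smul_one, TensorProduct.tmul_smul,
            TensorProduct.smul_tmul]
        rw [this]; exact E.mul_mem (hBE _) hx
  have hK : ∀ k : K', θ ((1 : B) ⊗ₜ[A] k) ∈ E := fun k => by
    obtain ⟨a, b, hb, h⟩ := hCfull k
    have h1 : θ ((1 : B) ⊗ₜ[A] k) * g b = g a := by
      show θ _ * θ _ = θ _
      rw [← map_mul, Algebra.TensorProduct.tmul_mul_tmul, mul_one, h]
    have hb' : g b ≠ 0 := (((Ne.isUnit hb).map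
      (Algebra.TensorProduct.includeRight : K' →ₐ[A] T)).map θ).ne_zero
    rw [eq_div_of_mul_eq hb' h1]
    exact E.div_mem (hCE a) (hCE b)
  have hT : ∀ t : T, θ t ∈ E := fun t => by
    induction t using TensorProduct.induction_on with
    | zero => simp
    | tmul b k =>
        have : (b ⊗ₜ[A] k : T) = algebraMap B T b * (1 ⊗ₜ k) := by
          show _ = (b ⊗ₜ[A] (1 : K')) * (1 ⊗ₜ k)
          rw [Algebra.TensorProduct.tmul_mul_tmul, mul_one, one_mul]
        rw [this, map_mul]
        exact E.mul_mem (hBE b) (hK k)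
    | add x y hx hy => rw [map_add]; exact E.add_mem hx hy
  have htop : E = ⊤ := by
    refine eq_top_iff.2 fun z _ => ?_
    obtain ⟨a, b, -, rfl⟩ := IsFractionRing.div_surjective (A := T ⧸ P) z
    obtain ⟨a, rfl⟩ := Ideal.Quotient.mk_surjective a
    obtain ⟨b, rfl⟩ := Ideal.Quotient.mk_surjective b
    exact E.div_mem (hT a) (hT b)
  haveI : FiniteDimensional F L :=
    Module.Finite.equiv ((IntermediateField.equivOfEq htop).trans IntermediateField.topEquiv).toLinearEquiv
  have h := hJ q hq L inferInstance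
  haveI : Module.Finite B (integralClosure (B ⧸ q) L) := Module.Finite.trans (B ⧸ q) _
  let f : integralClosure B L →ₗ[B] integralClosure (B ⧸ q) L :=
    { toFun := fun x => ⟨x.1, IsIntegral.tower_top x.2⟩
      map_add' := fun _ _ => rfl
      map_smul' := fun _ _ => Subtype.ext (by simp) }
  refine Module.Finite.of_injective f fun x y h => ?_
  exact Subtype.ext (congrArg Subtype.val h :)

/-- The product of residue fields at the minimal primes. -/
abbrev ResProd (A B K' : Type u) [CommRing A] [CommRing B] [Algebra A B] [Field K'] [Algebra A K'] :=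
  ∀ P : minimalPrimes (B ⊗[A] K'), (haveI := P.2.1.1; (P : Ideal (B ⊗[A] K')).ResidueField)

theorem exists_stable
    (hJ : ∀ (q : Ideal B) [q.IsPrime], q ∈ minimalPrimes B → CAlg.IsN2 (B ⧸ q)) :
    ∃ Cα : Subalgebra A K', FullFinite Cα ∧ ∀ C : Subalgebra A K', FullFinite C → ∀ hle : Cα ≤ C,
      (∀ x : ↥Cα ⊗[A] B, IsNilpotent (Algebra.TensorProduct.map (Subalgebra.inclusion hle) (AlgHom.id A B) x) →
        IsNilpotent x) ∧
      (∀ y : ↥C ⊗[A] B, ∃ x : ↥Cα ⊗[A] B,
        IsNilpotent (Algebra.TensorProduct.map (Subalgebra.inclusion hle) (AlgHom.id A B) x - y)) := by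
  classical
  let T := B ⊗[A] K'
  haveI : Finite (minimalPrimes T) := (minimalPrimes.finite_of_isNoetherianRing T).to_subtype
  haveI : ∀ P : minimalPrimes T, (P : Ideal T).IsPrime := fun P => P.2.1.1
  let Φ : T →ₐ[B] ResProd A B K' := Pi.algHom B _ fun P => IsScalarTower.toAlgHom B T _
  let N : Submodule B (ResProd A B K') :=
    Submodule.pi Set.univ fun P => (integralClosure B (P : Ideal T).ResidueField).toSubmodule
  haveI : ∀ P : minimalPrimes T, Module.Finite B (integralClosure B (P : Ideal T).ResidueField) :=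
    fun P => finite_integralClosure_residueField (A := A) (K' := K') hJ (P : Ideal T) P.2
  haveI : IsNoetherian B N := by
    refine isNoetherian_of_fg_of_noetherian N ?_
    exact Submodule.fg_pi fun P => Module.Finite.iff_fg.1 inferInstance
  let im : Subalgebra A K' → Submodule B (ResProd A B K') := fun C =>
    LinearMap.range (Φ.comp (toTot C)).toLinearMap
  have him : ∀ C, FullFinite C → im C ≤ N := fun C hC => by
    rintro _ ⟨z, rfl⟩
    haveI := hC.1
    rw [Submodule.mem_pi]
    intro P _
    exact (IsIntegral.of_finite B z).map ((Pi.evalAlgHom B _ P).comp (Φ.comp (toTot C)))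
  obtain ⟨C₀, hC₀⟩ := exists_fullFinite (A := A) (K' := K')
  obtain ⟨M, ⟨Cα, hCα, rfl⟩, hmax⟩ := set_has_maximal_iff_noetherian.2 ‹IsNoetherian B N›
    {M | ∃ C, FullFinite C ∧ (im C).comap N.subtype = M} ⟨_, C₀, hC₀, rfl⟩
  refine ⟨Cα, hCα, fun C hC hle => ?_⟩
  let ι := Algebra.TensorProduct.map (Subalgebra.inclusion hle) (AlgHom.id A B)
  let c : ∀ D : Subalgebra A K', (↥D ⊗[A] B) ≃ₐ[A] B ⊗[A] ↥D := fun D => Algebra.TensorProduct.comm A _ B
  have hι : ∀ x, toTot C (c C (ι x)) = toTot Cα (c Cα x) := fun x => by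
    induction x using TensorProduct.induction_on with
    | zero => simp
    | tmul a b => simp [c, ι, toTot]
    | add a b ha hb => simp [map_add, ha, hb]
  have hle' : im Cα ≤ im C := by
    rintro _ ⟨z, rfl⟩
    refine ⟨c C (ι ((c Cα).symm z)), ?_⟩
    show Φ (toTot C _) = Φ (toTot Cα z)
    rw [hι, AlgEquiv.apply_symm_apply]
  have heq : im C ≤ im Cα := fun z hz => by
    have h1 : (im C).comap N.subtype = (im Cα).comap N.subtype := by
      refine le_antisymm ?_ (Submodule.comap_mono hle')
      by_contra hlt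
      exact hmax _ ⟨C, hC, rfl⟩ (lt_of_le_not_ge (Submodule.comap_mono hle') hlt)
    exact (SetLike.ext_iff.1 h1 ⟨z, him C hC hz⟩).1 hz
  have hnil : ∀ t : T, Φ t = 0 → IsNilpotent t := fun t ht => by
    refine nilpotent_iff_mem_prime.2 fun J hJ => ?_
    obtain ⟨P, hP, hPJ⟩ := Ideal.exists_minimalPrimes_le (I := (⊥ : Ideal T)) (J := J) bot_le
    haveI := hP.1.1
    exact hPJ (Ideal.algebraMap_residueField_eq_zero.1 (congrFun ht ⟨P, hP⟩))
  refine ⟨fun x hx => ?_, fun y => ?_⟩
  · have h := (hx.map (c C)).map (toTot C)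
    rw [hι] at h
    exact (IsNilpotent.map_iff (c Cα).injective).1 ((IsNilpotent.map_iff (toTot_injective Cα)).1 h)
  · obtain ⟨z, hz⟩ := heq ⟨c C y, rfl⟩
    refine ⟨(c Cα).symm z, ?_⟩
    refine (IsNilpotent.map_iff (c C).injective).1 ((IsNilpotent.map_iff (toTot_injective C)).1 ?_)
    rw [map_sub, map_sub, hι, AlgEquiv.apply_symm_apply]
    refine hnil _ ?_
    rw [map_sub, sub_eq_zero]
    exact hz

theorem eq_of_stable [Module.FaithfullyFlat A B] {Cα : Subalgebra A K'} (hCα : FullFinite Cα)
    (hsurj : ∀ C : Subalgebra A K', FullFinite C → ∀ hle : Cα ≤ C,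
      ∀ y : ↥C ⊗[A] B, ∃ x : ↥Cα ⊗[A] B,
        IsNilpotent (Algebra.TensorProduct.map (Subalgebra.inclusion hle) (AlgHom.id A B) x - y))
    (hint : Cα ≤ integralClosure A K') {k : Type u} [Field k] (g₁ g₂ : integralClosure A K' →+* k)
    (h : ∀ c : Cα, g₁ (Subalgebra.inclusion hint c) = g₂ (Subalgebra.inclusion hint c)) : g₁ = g₂ := by
  classical
  ext a
  letI : Algebra A k := (g₁.comp (algebraMap A _)).toAlgebra
  let h₁ : integralClosure A K' →ₐ[A] k := { g₁ with commutes' := fun _ => rfl }
  let h₂ : integralClosure A K' →ₐ[A] k :=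
    { g₂ with commutes' := fun r => (h (algebraMap A Cα r)).symm }
  let C := Cα ⊔ Algebra.adjoin A {(a : K')}
  have hfin : Module.Finite A (Algebra.adjoin A {(a : K')}) := by
    refine Algebra.finite_adjoin_of_finite_of_isIntegral (Set.finite_singleton _) ?_
    rintro x rfl
    exact a.2
  have hC : FullFinite C := hCα.sup hfin
  have hCi : C ≤ integralClosure A K' := sup_le hint (Algebra.adjoin_le (by simpa using a.2))
  let aC : C := ⟨a, (le_sup_right : _ ≤ C) (Algebra.self_mem_adjoin_singleton A (a : K'))⟩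
  obtain ⟨x, hx⟩ := hsurj C hC le_sup_left (aC ⊗ₜ 1)
  haveI : Nontrivial (k ⊗[A] B) := inferInstance
  obtain ⟨Mx, hMx⟩ := Ideal.exists_maximal (k ⊗[A] B)
  let Lf := (k ⊗[A] B) ⧸ Mx
  letI : Field Lf := Ideal.Quotient.field Mx
  let π : k ⊗[A] B →ₐ[A] Lf := Ideal.Quotient.mkₐ A Mx
  let j : (integralClosure A K' →ₐ[A] k) → (↥C ⊗[A] B →ₐ[A] Lf) := fun g =>
    π.comp (Algebra.TensorProduct.map (g.comp (Subalgebra.inclusion hCi)) (AlgHom.id A B))
  let ι := Algebra.TensorProduct.map (Subalgebra.inclusion (le_sup_left : Cα ≤ C)) (AlgHom.id A B)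
  have hι : ∀ z, j h₁ (ι z) = j h₂ (ι z) := fun z => by
    induction z using TensorProduct.induction_on with
    | zero => simp
    | tmul c b =>
        show π (g₁ _ ⊗ₜ b) = π (g₂ _ ⊗ₜ b)
        exact congrArg (fun t => π (t ⊗ₜ b)) (h c)
    | add u v hu hv => rw [map_add, map_add, map_add, hu, hv]
  have hz : ∀ g, j g (ι x) = j g (aC ⊗ₜ 1) := fun g => by
    rw [← sub_eq_zero, ← map_sub]
    exact (hx.map (j g)).eq_zero
  have h12 : π (g₁ a ⊗ₜ 1) = π (g₂ a ⊗ₜ 1) :=
    ((hz h₁).symm.trans (hι x)).trans (hz h₂)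
  exact (π.comp Algebra.TensorProduct.includeLeft).toRingHom.injective h12

end Groth.Agent.CAlgH2
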