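import Mathlib
import Groth.Prelude.Def_Found
import Groth.Agent.CAlg5.NFinite
import Groth.Agent.Frg27.RigFinite
import Groth.Agent.S4562

/-!
# Tate's lemma: `R` normal, `x`-adically complete, `R/xR` N-2 implies `R` N-2
-/

set_option autoImplicit false
set_option linter.style.haveILetI false

namespace Groth.Agent.CAlgH2

universe u

theorem isN2_of_ringEquiv {R R' : Type u} [CommRing R] [IsDomain R] [CommRing R'] [IsDomain R']
    (e : R ≃+* R') (h : CAlg.IsN2 R) : CAlg.IsN2 R' := by
  intro L _ _ _ _ hfd
  haveI := hfd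
  let K := FractionRing R'
  letI : Algebra R R' := e.toRingHom.toAlgebra
  letI : Algebra R L := ((algebraMap R' L).comp e.toRingHom).toAlgebra
  haveI : IsScalarTower R R' L := .of_algebraMap_eq fun _ => rfl
  haveI : IsScalarTower R K L := .of_algebraMap_eq fun r => IsScalarTower.algebraMap_apply R' K L (e r)
  haveI : IsFractionRing R K := by
    have : IsFractionRing R' K := inferInstance
    have h1 := IsLocalization.isLocalization_of_base_ringEquiv (nonZeroDivisors R') K e.symm
    have hM : Submonoid.map e.symm (nonZeroDivisors R') = nonZeroDivisors R :=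
      MulEquivClass.map_nonZeroDivisors e.symm
    rw [hM] at h1
    convert h1 using 1
    exact Algebra.algebra_ext _ _ fun r => IsScalarTower.algebraMap_apply R R' K r
  have hfin := Groth.Agent.CAlg5.IsN2.finite h K L
  have hmem : ∀ x : L, IsIntegral R' x → IsIntegral R x := fun x hx =>
    haveI : Module.Finite R R' := Module.Finite.of_surjective (Algebra.linearMap R R') e.surjective
    haveI : Algebra.IsIntegral R R' := Algebra.IsIntegral.of_finite R R'
    isIntegral_trans (R := R) x hx
  obtain ⟨T, hT, hspan⟩ := (Groth.Agent.CAlg5.finite_integralClosure_iff R L).1 hfin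
  refine (Groth.Agent.CAlg5.finite_integralClosure_iff R' L).2 ⟨T, fun t ht => (hT t ht).tower_top, fun x hx => ?_⟩
  exact Submodule.span_le_restrictScalars R R' (T : Set L) (hspan x (hmem x hx))

theorem exists_pow_root_extension {K L : Type u} [Field K] [Field L] [Algebra K L] [FiniteDimensional K L]
    (q : ℕ) [ExpChar K q] (n : ℕ) (hQ : ∀ l : L, l ^ q ^ n ∈ (algebraMap K L).range) (x : K) :
    ∃ (L' : Type u) (_ : Field L') (_ : Algebra K L') (_ : Algebra L L') (_ : IsScalarTower K L L')
      (y : L'), FiniteDimensional K L' ∧ y ^ q ^ n = algebraMap K L' x ∧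
        ∀ l : L', l ^ q ^ n ∈ (algebraMap K L').range := by
  classical
  let p : Polynomial L := Polynomial.X ^ q ^ n - Polynomial.C (algebraMap K L x)
  have hq : 0 < q ^ n := pow_pos (expChar_pos K q) n
  have hpdeg : p.natDegree = q ^ n := Polynomial.natDegree_X_pow_sub_C
  have hp0 : p ≠ 0 := Polynomial.X_pow_sub_C_ne_zero hq _
  obtain ⟨f, hf, hfp⟩ := WfDvdMonoid.exists_irreducible_factor
    (fun hu => by have := Polynomial.natDegree_eq_zero_of_isUnit hu; omega) hp0
  haveI : Fact (Irreducible f) := ⟨hf⟩
  let L' := AdjoinRoot f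
  haveI : FiniteDimensional L L' := (AdjoinRoot.powerBasis hf.ne_zero).finite
  have hy : (AdjoinRoot.root f) ^ q ^ n = algebraMap K L' x := by
    obtain ⟨g, hg⟩ := hfp
    have h1 : Polynomial.aeval (AdjoinRoot.root f) p = 0 := by
      rw [hg, map_mul, AdjoinRoot.aeval_eq, AdjoinRoot.mk_self, zero_mul]
    simp only [p, map_sub, map_pow, Polynomial.aeval_X, Polynomial.aeval_C, sub_eq_zero] at h1
    rw [h1, ← IsScalarTower.algebraMap_apply K L L']
  haveI : ExpChar L' q := expChar_of_injective_algebraMap (algebraMap K L').injective q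
  refine ⟨L', inferInstance, inferInstance, inferInstance, inferInstance, AdjoinRoot.root f,
    FiniteDimensional.trans K L L', hy, fun l => ?_⟩
  induction l using AdjoinRoot.induction_on with
  | ih g =>
    induction g using Polynomial.induction_on' with
    | add a b ha hb =>
        rw [map_add, add_pow_expChar_pow]
        exact add_mem ha hb
    | monomial i a =>
        rw [← Polynomial.C_mul_X_pow_eq_monomial, map_mul, map_pow, AdjoinRoot.mk_C, AdjoinRoot.mk_X,
          mul_pow, ← pow_mul, mul_comm i, pow_mul, hy]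
        obtain ⟨k, hk⟩ := hQ a
        refine ⟨k * x ^ i, ?_⟩
        rw [map_mul, map_pow, IsScalarTower.algebraMap_apply K L L' k, hk, map_pow]
        rfl

variable {R : Type u} [CommRing R] [IsDomain R] [IsNoetherianRing R] [IsIntegrallyClosed R]
  {L : Type u} [Field L] [Algebra R L] [Algebra (FractionRing R) L]
  [IsScalarTower R (FractionRing R) L]

theorem tate_core (x : R) (hx : x ≠ 0) [(Ideal.span ({x} : Set R)).IsPrime]
    (h2 : CAlg.IsN2 (R ⧸ Ideal.span ({x} : Set R))) [IsAdicComplete (Ideal.span ({x} : Set R)) R]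
    [FiniteDimensional (FractionRing R) L] (q : ℕ) [ExpChar (FractionRing R) q] (n : ℕ)
    (hQ : ∀ l : L, l ^ q ^ n ∈ (algebraMap (FractionRing R) L).range)
    (y : L) (hy : y ^ q ^ n = algebraMap R L x) :
    Module.Finite R (integralClosure R L) := by
  classical
  let K := FractionRing R
  set S := integralClosure R L
  set Q := q ^ n with hQdef
  have hQ0 : 0 < Q := pow_pos (expChar_pos K q) n
  haveI : ExpChar L q := expChar_of_injective_algebraMap (algebraMap K L).injective q
  have hinj : Function.Injective (algebraMap R L) := by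
    rw [IsScalarTower.algebraMap_eq R K L]
    exact (algebraMap K L).injective.comp (IsFractionRing.injective R K)
  have hρ : ∀ s : S, ∃ r : R, (s : L) ^ Q = algebraMap R L r := fun s => by
    obtain ⟨k, hk⟩ := hQ s
    have h1 : IsIntegral R k := (isIntegral_algebraMap_iff (algebraMap K L).injective).1
      (hk ▸ (show IsIntegral R (s : L) from s.2).pow Q)
    obtain ⟨r, rfl⟩ := IsIntegrallyClosed.isIntegral_iff.1 h1
    exact ⟨r, by rw [← hk, ← IsScalarTower.algebraMap_apply R K L]⟩
  choose r hr using hρ
  let ρ : S →+* R :=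
    { toFun := r
      map_one' := hinj (by rw [← hr]; simp)
      map_zero' := hinj (by rw [← hr]; simp [hQ0.ne'])
      map_mul' := fun a b => hinj (by rw [map_mul, ← hr, ← hr, ← hr, ← mul_pow]; rfl)
      map_add' := fun a b => hinj (by rw [map_add, ← hr, ← hr, ← hr, ← add_pow_expChar_pow]; rfl) }
  have hρr : ∀ s : S, (s : L) ^ Q = algebraMap R L (ρ s) := hr
  have hρ0 : ∀ s : S, ρ s = 0 → s = 0 := fun s hs => by
    have h1 := hρr s
    rw [hs, map_zero] at h1
    exact Subtype.ext (eq_zero_of_pow_eq_zero h1)
  let I : Ideal R := Ideal.span {x}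
  have hyint : IsIntegral R y := IsIntegral.of_pow hQ0 (hy ▸ isIntegral_algebraMap)
  let yS : S := ⟨y, hyint⟩
  have hy0 : y ≠ 0 := fun h => hx (hinj (by rw [← hy, h, zero_pow hQ0.ne', map_zero]))
  have hρy : ρ yS = x := hinj (by rw [← hρr]; exact hy)
  let P : Ideal S := I.comap ρ
  have hP : ∀ s ∈ P, ∃ t : S, s = yS * t := fun s hs => by
    obtain ⟨a, ha⟩ := Ideal.mem_span_singleton'.1 (Ideal.mem_comap.1 hs)
    have h1 : ((s : L) / y) ^ Q = algebraMap R L a := by
      rw [div_pow, hρr, ← ha, map_mul, hy, mul_div_assoc,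
        div_self (fun h => hx (hinj (by rw [h, map_zero]))), mul_one]
    refine ⟨⟨(s : L) / y, IsIntegral.of_pow hQ0 (h1 ▸ isIntegral_algebraMap)⟩, Subtype.ext ?_⟩
    exact (mul_div_cancel₀ _ hy0).symm
  have hxP : algebraMap R S x ∈ P := by
    show ρ (algebraMap R S x) ∈ I
    have : ρ (algebraMap R S x) = x ^ Q := hinj (by rw [← hρr, map_pow]; rfl)
    rw [this]
    exact Ideal.pow_mem_of_mem _ (Ideal.mem_span_singleton_self x) Q hQ0
  haveI : P.IsPrime := Ideal.comap_isPrime ρ I
  -- the residue algebra
  let Rb := R ⧸ I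
  let Sb := S ⧸ P
  let j : Rb →+* Sb := Ideal.quotientMap P (algebraMap R S) (fun a ha => by
    obtain ⟨c, rfl⟩ := Ideal.mem_span_singleton'.1 ha
    rw [Ideal.mem_comap, map_mul]
    exact P.mul_mem_left _ hxP)
  letI : Algebra Rb Sb := j.toAlgebra
  haveI : IsScalarTower R Rb Sb := .of_algebraMap_eq fun _ => rfl
  have hj : ∀ a : R, algebraMap R S a ∈ P → a ∈ I := fun a ha => by
    have : ρ (algebraMap R S a) = a ^ Q := hinj (by rw [← hρr, map_pow]; rfl)
    exact Ideal.IsPrime.mem_of_pow_mem ‹_› Q (this ▸ ha)
  have hjinj : Function.Injective (algebraMap Rb Sb) := by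
    rw [injective_iff_map_eq_zero]
    intro a ha
    obtain ⟨a, rfl⟩ := Ideal.Quotient.mk_surjective a
    exact Ideal.Quotient.eq_zero_iff_mem.2 (hj a (Ideal.Quotient.eq_zero_iff_mem.1 ha))
  have hbound : ∀ (m : ℕ) (f : Fin m → S), LinearIndependent Rb (fun i => Ideal.Quotient.mk P (f i)) →
      m ≤ Module.finrank K L := fun m f hf => by
    have hR : LinearIndependent R (fun i => (f i : L)) := by
      rw [Fintype.linearIndependent_iff]
      intro g hg i
      have key : ∀ (j : ℕ) (i : Fin m), g i ∈ I ^ j := by
        intro j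
        induction j with
        | zero => simp
        | succ j ih =>
          have h0 : ∀ i, ∃ b, b * x ^ j = g i := fun i => by
            have := ih i
            rw [Ideal.span_singleton_pow, Ideal.mem_span_singleton'] at this
            exact this
          choose b hb using h0
          have h1 : ∑ i, b i • (f i : L) = 0 := by
            have : algebraMap R L (x ^ j) * ∑ i, b i • (f i : L) = 0 := by
              rw [← hg, Finset.mul_sum]
              refine Finset.sum_congr rfl fun i _ => ?_
              rw [← hb i, Algebra.smul_def, Algebra.smul_def, map_mul]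
              ring
            exact (mul_eq_zero.1 this).resolve_left ((map_ne_zero_iff _ hinj).2 (pow_ne_zero j hx))
          have h2 : ∑ i, (Ideal.Quotient.mk I (b i)) • Ideal.Quotient.mk P (f i) = 0 := by
            have h3 : ∑ i, algebraMap R S (b i) * f i = 0 := Subtype.ext (by
              rw [AddSubmonoidClass.coe_finsetSum]
              simpa [Algebra.smul_def] using h1)
            have h4 := congrArg (Ideal.Quotient.mk P) h3
            rw [map_sum, map_zero] at h4
            rw [← h4]
            refine Finset.sum_congr rfl fun i _ => ?_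
            rw [Algebra.smul_def, map_mul]
            rfl
          intro i
          have h5 := Fintype.linearIndependent_iff.1 hf _ h2 i
          rw [← hb i, pow_succ']
          exact Ideal.mul_mem_mul (Ideal.Quotient.eq_zero_iff_mem.1 h5)
            (Ideal.pow_mem_pow (Ideal.mem_span_singleton_self x) j)
      have h6 : g i ∈ ⨅ j : ℕ, I ^ j := Ideal.mem_iInf.2 fun j => key j i
      rwa [Ideal.iInf_pow_eq_bot_of_isDomain I (Ideal.IsPrime.ne_top ‹_›), Ideal.mem_bot] at h6
    have hK : LinearIndependent K (fun i => (f i : L)) :=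
      (LinearIndependent.iff_fractionRing R K).1 hR
    simpa using hK.fintype_card_le_finrank
  have hmax : ∃ (m : ℕ) (f : Fin m → Sb), LinearIndependent Rb f ∧
      ∀ g : Fin (m + 1) → Sb, ¬ LinearIndependent Rb g := by
    by_contra hne
    push Not at hne
    have : ∀ m, ∃ f : Fin m → Sb, LinearIndependent Rb f := fun m => by
      induction m with
      | zero => exact ⟨Fin.elim0, linearIndependent_empty_type⟩
      | succ m ih => obtain ⟨f, hf⟩ := ih; exact hne m f hf
    obtain ⟨f, hf⟩ := this (Module.finrank K L + 1)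
    choose lf hlf using fun i => Ideal.Quotient.mk_surjective (f i)
    have := hbound _ lf (by simpa [hlf] using hf)
    omega
  obtain ⟨m, f, hf, hfmax⟩ := hmax
  let κ := FractionRing Sb
  have hκinj : Function.Injective (algebraMap Rb κ) :=
    (IsFractionRing.injective Sb κ).comp hjinj
  letI : Algebra (FractionRing Rb) κ := (IsFractionRing.lift hκinj).toAlgebra
  haveI : IsScalarTower Rb (FractionRing Rb) κ := .of_algebraMap_eq fun a => by
    rw [RingHom.algebraMap_toAlgebra (IsFractionRing.lift hκinj), IsFractionRing.lift_algebraMap]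
  let E : IntermediateField (FractionRing Rb) κ :=
    IntermediateField.adjoin (FractionRing Rb) (Set.range fun i => algebraMap Sb κ (f i))
  have hint : ∀ t : Sb, IsIntegral Rb (algebraMap Sb κ t) := fun t => by
    obtain ⟨t, rfl⟩ := Ideal.Quotient.mk_surjective t
    have h1 : IsIntegral R t := (isIntegral_algHom_iff S.val Subtype.val_injective).1 t.2
    have h2 : IsIntegral R (Ideal.Quotient.mk P t) := h1.map (Ideal.Quotient.mkₐ R P)
    exact (h2.tower_top (A := Rb)).algebraMap
  haveI : FiniteDimensional (FractionRing Rb) E := by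
    haveI := (Set.finite_range fun i => algebraMap Sb κ (f i)).to_subtype
    refine IntermediateField.finiteDimensional_adjoin ?_
    rintro _ ⟨i, rfl⟩
    exact (hint _).tower_top
  have hE : ∀ t : Sb, algebraMap Sb κ t ∈ E := fun t => by
    obtain ⟨g, hg, i₀, hi₀⟩ := Fintype.not_linearIndependent_iff.1 (hfmax (Fin.cons t f))
    rw [Fin.sum_univ_succ] at hg
    simp only [Fin.cons_zero, Fin.cons_succ] at hg
    have hg0 : g 0 ≠ 0 := fun h => by
      rw [h, zero_smul, zero_add] at hg
      have h3 := Fintype.linearIndependent_iff.1 hf _ hg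
      induction i₀ using Fin.cases with
      | zero => exact hi₀ h
      | succ i => exact hi₀ (h3 i)
    have hg' := congrArg (algebraMap Sb κ) hg
    rw [map_add, map_sum, map_zero, Algebra.smul_def, map_mul, add_eq_zero_iff_eq_neg,
      ← IsScalarTower.algebraMap_apply Rb Sb κ] at hg'
    have hne : algebraMap Rb κ (g 0) ≠ 0 := (map_ne_zero_iff _ hκinj).2 hg0
    have hmem : ∀ a : Rb, algebraMap Rb κ a ∈ E := fun a => by
      rw [IsScalarTower.algebraMap_apply Rb (FractionRing Rb) κ]; exact E.algebraMap_mem _
    rw [eq_div_of_mul_eq hne ((mul_comm _ _).trans hg')]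
    refine E.div_mem (E.neg_mem (E.sum_mem fun i _ => ?_)) (hmem _)
    rw [Algebra.smul_def, map_mul, ← IsScalarTower.algebraMap_apply Rb Sb κ]
    exact E.mul_mem (hmem _) (IntermediateField.subset_adjoin _ _ ⟨i, rfl⟩)
  haveI : IsScalarTower Rb (FractionRing Rb) E := .of_algebraMap_eq fun a => Subtype.ext
    (IsScalarTower.algebraMap_apply Rb (FractionRing Rb) κ a)
  haveI := h2 E inferInstance
  haveI : IsScalarTower Rb E κ := .of_algebraMap_eq fun a => by
    rw [IsScalarTower.algebraMap_apply Rb (FractionRing Rb) κ,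
      IsScalarTower.algebraMap_apply Rb (FractionRing Rb) E]
    rfl
  let φ : Sb →ₗ[Rb] integralClosure Rb E :=
    { toFun := fun t => ⟨⟨algebraMap Sb κ t, hE t⟩,
        (isIntegral_algHom_iff (IsScalarTower.toAlgHom Rb E κ) Subtype.val_injective).1 (hint t)⟩
      map_add' := fun a b => Subtype.ext (Subtype.ext (map_add _ a b))
      map_smul' := fun c a => Subtype.ext (Subtype.ext (by
        show algebraMap Sb κ (c • a) = c • algebraMap Sb κ a
        rw [Algebra.smul_def, Algebra.smul_def, map_mul, ← IsScalarTower.algebraMap_apply Rb Sb κ])) }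
  haveI : Module.Finite Rb Sb := Module.Finite.of_injective φ fun a b h =>
    IsFractionRing.injective Sb κ (congrArg (fun z : integralClosure Rb E => ((z : E) : κ)) h)
  haveI : Module.Finite R Sb := Module.Finite.trans Rb Sb
  -- finitely many generators modulo `x`
  obtain ⟨s, hs⟩ := (Module.Finite.fg_top : (⊤ : Submodule R Sb).FG)
  choose l hl using Ideal.Quotient.mk_surjective (I := P)
  let G : Finset S := (Finset.range Q ×ˢ s).image fun p => yS ^ p.1 * l p.2
  let T : Submodule R S := Submodule.span R (G : Set S)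
  have hstep : ∀ i ≤ Q, ∀ z : S, ∃ t ∈ T, ∃ w : S, z = t + yS ^ i * w := by
    intro i
    induction i with
    | zero => exact fun _ z => ⟨0, zero_mem _, z, by simp⟩
    | succ i ih =>
      intro hi z
      obtain ⟨t, ht, w, rfl⟩ := ih (by omega) z
      have hw : Ideal.Quotient.mk P w ∈ Submodule.span R (s : Set Sb) := hs ▸ trivial
      have key : ∀ v ∈ Submodule.span R (s : Set Sb), ∃ t' ∈ T, ∃ c : S,
          Ideal.Quotient.mk P c = v ∧ yS ^ i * c = t' := by
        intro v hw
        induction hw using Submodule.span_induction with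
        | mem a ha =>
            exact ⟨_, Submodule.subset_span (Finset.mem_coe.2 (Finset.mem_image.2
              ⟨(i, a), Finset.mem_product.2 ⟨Finset.mem_range.2 (by omega), ha⟩, rfl⟩)), l a, hl a, rfl⟩
        | zero => exact ⟨0, zero_mem _, 0, map_zero _, mul_zero _⟩
        | add a b _ _ ha hb =>
            obtain ⟨t₁, h₁, c₁, hc₁, rfl⟩ := ha
            obtain ⟨t₂, h₂, c₂, hc₂, rfl⟩ := hb
            exact ⟨_, add_mem h₁ h₂, c₁ + c₂, by rw [map_add, hc₁, hc₂], mul_add _ _ _⟩
        | smul a b _ hb =>
            obtain ⟨t₁, h₁, c₁, hc₁, rfl⟩ := hb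
            exact ⟨_, T.smul_mem a h₁, a • c₁, by rw [← hc₁]; rfl, mul_smul_comm _ _ _⟩
      obtain ⟨t', ht', c, hc, hct⟩ := key _ hw
      obtain ⟨w', hw'⟩ := hP (w - c) (Ideal.Quotient.eq.1 hc.symm)
      refine ⟨t + t', add_mem ht ht', w', ?_⟩
      rw [← hct, pow_succ, mul_assoc, ← hw']
      ring
  haveI : IsHausdorff I S := ⟨fun z hz => by
    refine hρ0 z ?_
    have h7 : ρ z ∈ ⨅ j : ℕ, I ^ j := Ideal.mem_iInf.2 fun j => by
      have h := hz j
      rw [SModEq.zero, Ideal.smul_top_eq_map, Submodule.restrictScalars_mem, Ideal.map_pow,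
        Ideal.map_span, Set.image_singleton, Ideal.span_singleton_pow, Ideal.mem_span_singleton'] at h
      obtain ⟨c, rfl⟩ := h
      have : ρ (algebraMap R S x) = x ^ Q := hinj (by rw [← hρr, map_pow]; rfl)
      rw [map_mul, map_pow, this]
      refine Ideal.mul_mem_left _ _ (Ideal.pow_mem_pow ?_ j)
      exact Ideal.pow_mem_of_mem _ (Ideal.mem_span_singleton_self x) Q hQ0
    rwa [Ideal.iInf_pow_eq_bot_of_isDomain I (Ideal.IsPrime.ne_top ‹_›), Ideal.mem_bot] at h7⟩
  refine Groth.Agent.Frg27.finite_of_sup_eq_top (I := I) (Submodule.fg_span (Finset.finite_toSet G))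
    (eq_top_iff.2 fun z _ => ?_)
  obtain ⟨t, ht, w, rfl⟩ := hstep Q le_rfl z
  refine Submodule.add_mem_sup ht ?_
  have : yS ^ Q = algebraMap R S x := Subtype.ext hy
  rw [this, ← Algebra.smul_def]
  exact Submodule.smul_mem_smul (Ideal.mem_span_singleton_self x) trivial

theorem isN2_of_quotient_isN2 (R : Type u) [CommRing R] [IsDomain R] [IsNoetherianRing R]
    [IsIntegrallyClosed R] (x : R) [(Ideal.span ({x} : Set R)).IsPrime]
    (h2 : CAlg.IsN2 (R ⧸ Ideal.span ({x} : Set R))) [IsAdicComplete (Ideal.span ({x} : Set R)) R] :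
    CAlg.IsN2 R := by
  rcases eq_or_ne x 0 with rfl | hx
  · exact isN2_of_ringEquiv
      ((Ideal.quotEquivOfEq (Ideal.span_singleton_eq_bot.2 rfl)).trans (RingEquiv.quotientBot R)) h2
  refine Groth.Agent.S4562.result R fun L _ _ _ _ hfd hpi => ?_
  haveI := hfd
  haveI := hpi
  let K := FractionRing R
  let q := ringExpChar K
  haveI : ExpChar K q := inferInstance
  haveI : IsPurelyInseparable.HasExponent K L := inferInstance
  obtain ⟨L', _, _, _, _, y, hfd', hy, hQ'⟩ := exists_pow_root_extension q
    (IsPurelyInseparable.exponent K L) (fun l => IsPurelyInseparable.exponent_def' K q l)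
    (algebraMap R K x)
  haveI := hfd'
  letI : Algebra R L' := ((algebraMap K L').comp (algebraMap R K)).toAlgebra
  haveI : IsScalarTower R K L' := .of_algebraMap_eq fun _ => rfl
  haveI : IsScalarTower R L L' := .of_algebraMap_eq fun a => by
    rw [IsScalarTower.algebraMap_apply R K L, IsScalarTower.algebraMap_apply R K L',
      IsScalarTower.algebraMap_apply K L L']
  haveI := tate_core (R := R) (L := L') x hx h2 q _ hQ' y hy
  let f : integralClosure R L →ₗ[R] integralClosure R L' :=
    ((IsScalarTower.toAlgHom R L L').mapIntegralClosure).toLinearMap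
  exact Module.Finite.of_injective f fun a b h => Subtype.ext
    ((algebraMap L L').injective (congrArg Subtype.val h :))

end Groth.Agent.CAlgH2
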