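import Mathlib
import Groth.Agent.CAlgH2.TateLemma
import Groth.Agent.S6299
import Groth.Agent.Cohen12.PowerSeries

/-!
# Power series rings over N-2 Noetherian domains are N-2
-/

set_option autoImplicit false
set_option linter.style.haveILetI false

namespace Groth.Agent.CAlgH2

universe u

theorem isAdicComplete_X (R : Type u) [CommRing R] :
    IsAdicComplete (Ideal.span {(PowerSeries.X : PowerSeries R)}) (PowerSeries R) := by
  have hmem : ∀ (n : ℕ) (f g : PowerSeries R),
      f ≡ g [SMOD (Ideal.span {(PowerSeries.X : PowerSeries R)} ^ n • ⊤ : Submodule (PowerSeries R) (PowerSeries R))] ↔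
        ∀ m < n, PowerSeries.coeff m f = PowerSeries.coeff m g := fun n f g => by
    rw [SModEq.sub_mem, smul_eq_mul, Ideal.mul_top, Ideal.span_singleton_pow, Ideal.mem_span_singleton,
      PowerSeries.X_pow_dvd_iff]
    simp [sub_eq_zero]
  refine { haus' := fun f hf => PowerSeries.ext fun m => ?_, prec' := fun f hf => ?_ }
  · simpa using (hmem (m + 1) f 0).1 (hf (m + 1)) m (by omega)
  · refine ⟨PowerSeries.mk fun k => PowerSeries.coeff k (f (k + 1)), fun n => (hmem n _ _).2 fun m hm => ?_⟩
    rw [PowerSeries.coeff_mk]
    exact ((hmem (m + 1) _ _).1 (hf (show m + 1 ≤ n by omega)) m (by omega)).symm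

/-- `R[[X]]/(X) ≅ R`. -/
noncomputable def quotXEquiv' (R : Type u) [CommRing R] :
    (PowerSeries R ⧸ Ideal.span {(PowerSeries.X : PowerSeries R)}) ≃+* R :=
  (Ideal.quotEquivOfEq (show Ideal.span {(PowerSeries.X : PowerSeries R)} =
      RingHom.ker (PowerSeries.constantCoeff (R := R)) by
    ext f; rw [Ideal.mem_span_singleton, RingHom.mem_ker, PowerSeries.X_dvd_iff])).trans
    (RingHom.quotientKerEquivOfSurjective fun a => ⟨PowerSeries.C a, PowerSeries.constantCoeff_C a⟩)

theorem isN2_powerSeries_of_normal (R : Type u) [CommRing R] [IsDomain R] [IsNoetherianRing R]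
    [IsIntegrallyClosed R] (h : CAlg.IsN2 R) : CAlg.IsN2 (PowerSeries R) := by
  obtain ⟨h1, h2⟩ := Groth.Agent.S6299.result R
  haveI := h1
  haveI := h2
  haveI := isAdicComplete_X R
  haveI := (PowerSeries.span_X_isPrime : (Ideal.span ({PowerSeries.X} : Set (PowerSeries R))).IsPrime)
  exact isN2_of_quotient_isN2 (PowerSeries R) PowerSeries.X (isN2_of_ringEquiv (quotXEquiv' R).symm h)

/-- N-2 descends along a finite birational extension. -/
theorem isN2_of_finite_birational {R R' : Type u} [CommRing R] [IsDomain R] [IsNoetherianRing R]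
    [CommRing R'] [IsDomain R'] (φ : R →+* R') (hinj : Function.Injective φ) (hfin : φ.Finite)
    (c : R) (hc : c ≠ 0) (hbir : ∀ a : R', φ c * a ∈ φ.range) (h : CAlg.IsN2 R') : CAlg.IsN2 R := by
  letI : Algebra R R' := φ.toAlgebra
  haveI : Module.Finite R R' := hfin
  intro L _ _ _ _ hfd
  haveI := hfd
  let K := FractionRing R
  let K' := FractionRing R'
  have hg : Function.Injective ((algebraMap R' K').comp φ) :=
    (IsFractionRing.injective R' K').comp hinj
  let ι : K →+* K' := IsFractionRing.lift hg
  have hι : Function.Bijective ι := by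
    refine ⟨ι.injective, fun z => ?_⟩
    obtain ⟨a, b, hb, rfl⟩ := IsFractionRing.div_surjective (A := R') z
    obtain ⟨a', ha'⟩ := hbir a
    obtain ⟨b', hb'⟩ := hbir b
    refine ⟨algebraMap R K a' / algebraMap R K b', ?_⟩
    have hc' : algebraMap R' K' (φ c) ≠ 0 :=
      (map_ne_zero_iff _ (IsFractionRing.injective R' K')).2 ((map_ne_zero_iff _ hinj).2 hc)
    simp only [ι, map_div₀, IsFractionRing.lift_algebraMap, RingHom.comp_apply]
    rw [ha', hb', map_mul, map_mul, mul_div_mul_left _ _ hc']
  let e : K ≃+* K' := RingEquiv.ofBijective ι hι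
  letI : Algebra K' L := ((algebraMap K L).comp e.symm.toRingHom).toAlgebra
  letI : Algebra R' L := ((algebraMap K' L).comp (algebraMap R' K')).toAlgebra
  haveI : IsScalarTower R' K' L := .of_algebraMap_eq fun _ => rfl
  haveI : IsScalarTower R R' L := .of_algebraMap_eq fun r => by
    show algebraMap R L r = algebraMap K L (e.symm (algebraMap R' K' (φ r)))
    rw [IsScalarTower.algebraMap_apply R K L]
    congr 1
    refine (e.symm_apply_eq.2 ?_).symm
    exact (IsFractionRing.lift_algebraMap hg r).symm
  haveI : FiniteDimensional K' L :=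
    Module.Finite.of_equiv_equiv e (RingEquiv.refl L) (by
      ext z
      show algebraMap K L (e.symm (e z)) = algebraMap K L z
      rw [RingEquiv.symm_apply_apply])
  haveI := h L inferInstance
  haveI : Module.Finite R (integralClosure R' L) := Module.Finite.trans R' _
  let f : integralClosure R L →ₗ[R] integralClosure R' L :=
    { toFun := fun x => ⟨x.1, IsIntegral.tower_top x.2⟩
      map_add' := fun _ _ => rfl
      map_smul' := fun _ _ => Subtype.ext (by simp) }
  exact Module.Finite.of_injective f fun x y h => Subtype.ext (congrArg Subtype.val h :)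

/-- N-2 ascends along finite birational extensions. -/
theorem isN2_of_finite_same_frac {R R' : Type u} [CommRing R] [IsDomain R] [CommRing R'] [IsDomain R']
    [Algebra R R'] [Module.Finite R R'] (K : Type u) [Field K] [Algebra R K] [IsFractionRing R K]
    [Algebra R' K] [IsFractionRing R' K] [IsScalarTower R R' K] (h : CAlg.IsN2 R) : CAlg.IsN2 R' := by
  intro L _ _ _ _ hfd
  haveI := hfd
  let ψ := IsLocalization.algEquiv (nonZeroDivisors R') K (FractionRing R')
  letI : Algebra K L := ((algebraMap (FractionRing R') L).comp ψ.toRingEquiv.toRingHom).toAlgebra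
  letI : Algebra R L := ((algebraMap R' L).comp (algebraMap R R')).toAlgebra
  haveI : IsScalarTower R R' L := .of_algebraMap_eq fun _ => rfl
  haveI : IsScalarTower R K L := .of_algebraMap_eq fun r => by
    show algebraMap R' L (algebraMap R R' r) =
      algebraMap (FractionRing R') L (ψ (algebraMap R K r))
    rw [IsScalarTower.algebraMap_apply R R' K, ψ.commutes,
      ← IsScalarTower.algebraMap_apply R' (FractionRing R') L]
  haveI : FiniteDimensional K L :=
    Module.Finite.of_equiv_equiv ψ.toRingEquiv.symm (RingEquiv.refl L) (by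
      ext z
      show algebraMap (FractionRing R') L (ψ (ψ.symm z)) = algebraMap (FractionRing R') L z
      rw [AlgEquiv.apply_symm_apply])
  haveI := Groth.Agent.CAlg5.IsN2.finite h K L
  haveI : Algebra.IsIntegral R R' := Algebra.IsIntegral.of_finite R R'
  have hmem : ∀ x : L, IsIntegral R' x → IsIntegral R x := fun x hx => isIntegral_trans (R := R) x hx
  obtain ⟨T, hT, hspan⟩ := (Groth.Agent.CAlg5.finite_integralClosure_iff R L).1 inferInstance
  exact (Groth.Agent.CAlg5.finite_integralClosure_iff R' L).2
    ⟨T, fun t ht => (hT t ht).tower_top, fun x hx =>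
      Submodule.span_le_restrictScalars R R' (T : Set L) (hspan x (hmem x hx))⟩

theorem isN2_powerSeries (R : Type u) [CommRing R] [IsDomain R] [IsNoetherianRing R]
    (h : CAlg.IsN2 R) : CAlg.IsN2 (PowerSeries R) := by
  classical
  let K := FractionRing R
  let R' := integralClosure R K
  haveI hfin : Module.Finite R R' := h K inferInstance
  haveI : IsFractionRing R' K := integralClosure.isFractionRing_of_finite_extension K K
  haveI : IsIntegrallyClosed R' := integralClosure.isIntegrallyClosedOfFiniteExtension K
  haveI : IsNoetherianRing R' := IsNoetherianRing.of_finite R R'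
  have hinjR : Function.Injective (algebraMap R R') := fun a b hab =>
    IsFractionRing.injective R K (congrArg Subtype.val hab :)
  have hN2 : CAlg.IsN2 R' := isN2_of_finite_same_frac (R := R) K h
  have h' := isN2_powerSeries_of_normal R' hN2
  obtain ⟨s, hs⟩ := hfin.fg_top
  obtain ⟨⟨d, hd⟩, hden⟩ := IsLocalization.exist_integer_multiples_of_finset (nonZeroDivisors R)
    (s.image fun t : R' => (t : K))
  have hd' : ∀ t : R', ∃ a : R, algebraMap R R' d * t = algebraMap R R' a := fun t => by
    have ht : t ∈ Submodule.span R (s : Set R') := hs ▸ trivial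
    induction ht using Submodule.span_induction with
    | mem x hx =>
        obtain ⟨a, ha⟩ := hden _ (Finset.mem_image_of_mem _ hx)
        refine ⟨a, Subtype.ext ?_⟩
        show algebraMap R K d * (x : K) = algebraMap R K a
        rw [ha]
        exact (Algebra.smul_def d (x : K)).symm
    | zero => exact ⟨0, by simp⟩
    | add x y _ _ hx hy =>
        obtain ⟨a, ha⟩ := hx; obtain ⟨b, hb⟩ := hy
        exact ⟨a + b, by rw [map_add, mul_add, ha, hb]⟩
    | smul c x _ hx =>
        obtain ⟨a, ha⟩ := hx
        exact ⟨c * a, by rw [Algebra.smul_def, mul_left_comm, ha, map_mul]⟩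
  choose a ha using hd'
  let φ : PowerSeries R →+* PowerSeries R' := PowerSeries.map (algebraMap R R')
  have hφ : Function.Injective φ := PowerSeries.map_injective _ hinjR
  have hd0 : d ≠ 0 := nonZeroDivisors.ne_zero hd
  refine isN2_of_finite_birational φ hφ ?_ (PowerSeries.C d)
    (fun hC => hd0 (by simpa using congrArg PowerSeries.constantCoeff hC)) (fun f => ?_) h'
  · letI := φ.toAlgebra
    have hφfin : Module.Finite (PowerSeries R) (PowerSeries R') := by
      let g : (PowerSeries R') →ₗ[PowerSeries R] (PowerSeries R) :=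
        { toFun := fun f => PowerSeries.mk fun k => a (PowerSeries.coeff k f)
          map_add' := fun f g => hφ (by
            ext k
            simp [φ, ← ha, mul_add])
          map_smul' := fun c f => hφ (by
            rw [RingHom.id_apply, smul_eq_mul, map_mul, Algebra.smul_def]
            have key : ∀ f : PowerSeries R', φ (PowerSeries.mk fun k => a (PowerSeries.coeff k f)) =
                PowerSeries.C (algebraMap R R' d) * f := fun f => by
              ext k; simp [φ, ← ha]
            rw [key, key, RingHom.algebraMap_toAlgebra φ]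
            ring) }
      refine Module.Finite.of_injective g fun f f' hff => PowerSeries.ext fun k => ?_
      have h0 := congrArg (fun p => algebraMap R R' (PowerSeries.coeff k p)) hff
      simp only [g, LinearMap.coe_mk, AddHom.coe_mk, PowerSeries.coeff_mk, ← ha] at h0
      exact mul_left_cancel₀ ((map_ne_zero_iff _ hinjR).2 hd0) h0
    exact hφfin
  · refine ⟨PowerSeries.mk fun k => a (PowerSeries.coeff k f), ?_⟩
    ext k
    simp [φ, ← ha]

theorem isN2_mvPowerSeries (R : Type u) [CommRing R] [IsDomain R] [IsNoetherianRing R]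
    (h : CAlg.IsN2 R) : ∀ r : ℕ, ∀ [IsDomain (MvPowerSeries (Fin r) R)],
      CAlg.IsN2 (MvPowerSeries (Fin r) R) := by
  intro r
  induction r with
  | zero => intro _; exact isN2_of_ringEquiv (MvPowerSeries.isEmptyEquiv (σ := Fin 0) (R := R)).symm.toRingEquiv h
  | succ n ih =>
    intro _
    haveI : IsDomain (MvPowerSeries (Fin n) R) := NoZeroDivisors.to_isDomain _
    haveI : IsNoetherianRing (MvPowerSeries (Fin n) R) :=
      Groth.Agent.Cohen12.isNoetherianRing_powerSeries R n
    exact isN2_of_ringEquiv (MvPowerSeries.finSuccEquiv R n).symm.toRingEquiv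
      (isN2_powerSeries (MvPowerSeries (Fin n) R) ih)

end Groth.Agent.CAlgH2
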