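import Mathlib
import Groth.Agent.CAlgH2.PowerN2
import Groth.Agent.CAlg1.CohenStructure
import Groth.Agent.S2114
import Groth.Agent.S0574
import Groth.Agent.Cohen12.Structure

/-!
# Complete Noetherian local rings are Nagata
-/

set_option autoImplicit false
set_option linter.style.haveILetI false

open IsLocalRing

namespace Groth.Agent.CAlgH2

universe u

theorem isN1_of_isIntegrallyClosed (R : Type u) [CommRing R] [IsDomain R] [IsIntegrallyClosed R] :
    CAlg.IsN1 R := by
  unfold CAlg.IsN1
  rw [(IsIntegrallyClosed.integralClosure_eq_bot R (FractionRing R))]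
  exact Module.Finite.of_surjective (Algebra.linearMap R (⊥ : Subalgebra R (FractionRing R)))
    (fun ⟨x, hx⟩ => by obtain ⟨r, rfl⟩ := Algebra.mem_bot.1 hx; exact ⟨r, rfl⟩)

theorem isN2_of_isField {R : Type u} [CommRing R] [IsDomain R] (h : IsField R) : CAlg.IsN2 R := by
  intro L _ _ _ _ hfd
  haveI := hfd
  haveI : IsNoetherianRing R := by letI := h.toField; infer_instance
  haveI : Module.Finite R (FractionRing R) := Module.Finite.of_surjective
    (Algebra.linearMap R (FractionRing R)) (IsField.localization_map_bijective zero_notMem_nonZeroDivisors h).2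
  haveI : Module.Finite R L := Module.Finite.trans (FractionRing R) L
  exact Module.Finite.of_injective (integralClosure R L).val.toLinearMap Subtype.val_injective

theorem isN2_of_cohenRing {Λ : Type u} [CommRing Λ] [IsDomain Λ] (h : CAlg.IsCohenRing Λ) :
    CAlg.IsN2 Λ := by
  obtain ⟨_, hdvr, -, p, hp, hm⟩ := h
  haveI := hdvr
  have hp0 : (p : Λ) ≠ 0 := fun h0 => IsDiscreteValuationRing.not_a_field Λ
    (by rw [hm, h0, Ideal.span_singleton_eq_bot])
  haveI : CharZero Λ := by
    obtain ⟨l, hl⟩ := CharP.exists Λ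
    rcases CharP.char_is_prime_or_zero Λ l with hl' | rfl
    · exfalso
      have h1 : (p : Λ) ∈ maximalIdeal Λ := hm ▸ Ideal.mem_span_singleton_self _
      have h2 : Nat.Coprime p l := (Nat.coprime_primes hp hl').2 fun he => hp0 (he ▸ CharP.cast_eq_zero Λ l)
      obtain ⟨a, b, hab⟩ := (Int.isCoprime_iff_gcd_eq_one.2 (by simpa using h2) : IsCoprime (p : ℤ) (l : ℤ))
      have h3 : ((a * p + b * l : ℤ) : Λ) = 1 := by rw [hab, Int.cast_one]
      push_cast at h3
      rw [CharP.cast_eq_zero Λ l, mul_zero, add_zero] at h3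
      exact (maximalIdeal.isMaximal Λ).ne_top
        ((Ideal.eq_top_iff_one _).2 (h3 ▸ Ideal.mul_mem_left _ _ h1))
    · exact CharP.charP_to_charZero Λ
  exact (Groth.Agent.S0574.result Λ).1 (isN1_of_isIntegrallyClosed Λ)

theorem isN2_of_isAdicComplete (A : Type u) [CommRing A] [IsDomain A] [IsLocalRing A]
    [IsNoetherianRing A] [IsAdicComplete (maximalIdeal A) A] : CAlg.IsN2 A := by
  obtain ⟨Λ, _, n, f, hΛ, hfi, hff, -⟩ := Groth.Agent.CAlg1.exists_finite_injective A
  haveI : IsDomain (MvPowerSeries (Fin n) Λ) := hfi.isDomain f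
  haveI : IsDomain Λ := (MvPowerSeries.C_injective (σ := Fin n) (R := Λ)).isDomain MvPowerSeries.C
  haveI : IsNoetherianRing Λ := by
    rcases hΛ with h | ⟨_, h, -⟩
    · letI := h.toField; infer_instance
    · infer_instance
  have hN : CAlg.IsN2 Λ := hΛ.elim isN2_of_isField isN2_of_cohenRing
  haveI : IsNoetherianRing (MvPowerSeries (Fin n) Λ) :=
    Groth.Agent.Cohen12.isNoetherianRing_powerSeries Λ n
  letI : Algebra (MvPowerSeries (Fin n) Λ) A := f.toAlgebra
  haveI : Module.Finite (MvPowerSeries (Fin n) Λ) A := hff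
  exact Groth.Agent.S2114.result hfi (isN2_mvPowerSeries Λ hN n)

theorem isNagata_of_isAdicComplete (A : Type u) [CommRing A] [IsLocalRing A]
    [IsNoetherianRing A] [IsAdicComplete (maximalIdeal A) A] : CAlg.IsNagata A := by
  refine ⟨inferInstance, fun p _ => ?_⟩
  haveI : IsLocalRing (A ⧸ p) := IsLocalRing.of_surjective' (Ideal.Quotient.mk p) Ideal.Quotient.mk_surjective
  haveI : IsAdicComplete (maximalIdeal (A ⧸ p)) (A ⧸ p) :=
    Groth.Agent.Cohen12.isAdicComplete_quotient p
  exact isN2_of_isAdicComplete (A ⧸ p)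

end Groth.Agent.CAlgH2
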