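import Mathlib
import Groth.Agent.Fib62.Model
import Groth.Agent.Fib62.FlatExt
import Groth.Agent.FlatStage64.Main

/-!
# The fibre criterion of flatness at a prime over an arbitrary base
-/

set_option autoImplicit false
set_option linter.style.haveILetI false

universe u

open TensorProduct

namespace Groth.Agent.CAlgH2

open Groth.Agent.Fib62 Groth.Agent

attribute [local instance] Algebra.TensorProduct.rightAlgebra

/-- Flatness of a localized module is stable under base change. -/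
theorem flat_localized_pushout {D D' S S' : Type u} [CommRing D] [CommRing D'] [CommRing S] [CommRing S']
    [Algebra D D'] [Algebra D S] [Algebra D' S'] [Algebra S S'] [Algebra D S']
    [IsScalarTower D D' S'] [IsScalarTower D S S'] [Algebra.IsPushout D D' S S']
    (N : Type u) [AddCommGroup N] [Module S N] [Module D N] [IsScalarTower D S N]
    (Q : Ideal S) [Q.IsPrime] (Q' : Ideal S') [Q'.IsPrime] [Q'.LiesOver Q]
    [Module.Flat D (Localization.AtPrime Q ⊗[S] N)] :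
    Module.Flat D' (Localization.AtPrime Q' ⊗[S'] (S' ⊗[S] N)) := by
  let T := Localization.AtPrime Q
  let T' := Localization.AtPrime Q'
  letI : Algebra T T' := Localization.AtPrime.algebraOfLiesOver Q Q'
  have : Algebra.IsPushout D S D' S' := Algebra.IsPushout.symm inferInstance
  let W := T ⊗[S] N
  have := isLocalizedModule_id Q.primeCompl W T
  let eW : T ⊗[S] W ≃ₗ[T] W :=
    (IsLocalizedModule.isBaseChange Q.primeCompl T (LinearMap.id : W →ₗ[S] W)).equiv
  have : Module.Flat D' (S' ⊗[S] W) :=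
    Module.Flat.of_linearEquiv (Algebra.IsPushout.cancelBaseChange D D' S S' W)
  have : Module.Flat D' (T' ⊗[S'] (S' ⊗[S] W)) := flat_tensor
  exact Module.Flat.of_linearEquiv
    (((AlgebraTensorModule.cancelBaseChange S S' T' T' W) ≪≫ₗ
      (AlgebraTensorModule.cancelBaseChange S T T' T' W).symm ≪≫ₗ
      AlgebraTensorModule.congr (LinearEquiv.refl T' T') eW ≪≫ₗ
      AlgebraTensorModule.cancelBaseChange S T T' T' N ≪≫ₗ
      (AlgebraTensorModule.cancelBaseChange S S' T' T' N).symm).symm.restrictScalars D')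

theorem flat_of_goodAt_stage {A₀ B₀ C₀ D BD CD B C : Type u} [CommRing A₀] [CommRing B₀] [CommRing C₀]
    [CommRing D] [CommRing BD] [CommRing CD] [CommRing B] [CommRing C]
    [IsNoetherianRing D] [IsNoetherianRing BD] [IsNoetherianRing CD]
    [Algebra A₀ B₀] [Algebra B₀ C₀] [Algebra A₀ C₀] [IsScalarTower A₀ B₀ C₀]
    [Algebra A₀ D] [Algebra D BD] [Algebra B₀ BD] [Algebra A₀ BD] [IsScalarTower A₀ D BD] [IsScalarTower A₀ B₀ BD]
    [Algebra D CD] [Algebra C₀ CD] [Algebra A₀ CD] [IsScalarTower A₀ D CD] [IsScalarTower A₀ C₀ CD]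
    [Algebra BD CD] [IsScalarTower D BD CD] [Algebra B₀ CD] [IsScalarTower B₀ BD CD] [IsScalarTower B₀ C₀ CD]
    [Algebra BD B] [Algebra CD C] [Algebra B C] [Algebra BD C] [Algebra C₀ C]
    [IsScalarTower BD CD C] [IsScalarTower BD B C] [IsScalarTower C₀ CD C]
    [Algebra.IsPushout A₀ D B₀ BD] [Algebra.IsPushout A₀ D C₀ CD] [Algebra.IsPushout BD B CD C]
    (M₀ : Type u) [AddCommGroup M₀] [Module C₀ M₀] [Module A₀ M₀] [IsScalarTower A₀ C₀ M₀]
    [Module.Finite C₀ M₀] [Module.Flat D (D ⊗[A₀] M₀)] (P : PrimeSpectrum C)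
    (hgood : GoodAt A₀ B₀ M₀ (PrimeSpectrum.comap (algebraMap C₀ C) P)) :
    Module.Flat B (Localization.AtPrime P.asIdeal ⊗[C] (C ⊗[C₀] M₀)) := by
  let PD := PrimeSpectrum.comap (algebraMap CD C) P
  let MD := CD ⊗[C₀] M₀
  haveI : Algebra.IsPushout A₀ C₀ D CD := Algebra.IsPushout.symm inferInstance
  haveI : Module.Flat D MD :=
    Module.Flat.of_linearEquiv (Algebra.IsPushout.cancelBaseChange A₀ D C₀ CD M₀)
  haveI : Module.Flat D (Localization.AtPrime PD.asIdeal ⊗[CD] MD) := flat_tensor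
  have hgood' : GoodAt D BD MD PD := by
    rw [goodAt_baseChange (A := A₀) (B := B₀) (A' := D) (B' := BD) M₀ PD]
    have : PrimeSpectrum.comap (algebraMap C₀ CD) PD = PrimeSpectrum.comap (algebraMap C₀ C) P := by
      apply PrimeSpectrum.ext
      show Ideal.comap (algebraMap C₀ CD) (Ideal.comap (algebraMap CD C) P.asIdeal) = _
      rw [Ideal.comap_comap, ← IsScalarTower.algebraMap_eq]
      rfl
    rw [this]
    exact hgood
  haveI : Module.Flat BD (Localization.AtPrime PD.asIdeal ⊗[CD] MD) :=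
    Fib62.flat_of_goodAt (A := D) (B := BD) (C := CD) MD PD hgood'
  haveI : P.asIdeal.LiesOver PD.asIdeal := ⟨rfl⟩
  haveI : Module.Flat B (Localization.AtPrime P.asIdeal ⊗[C] (C ⊗[CD] MD)) :=
    flat_localized_pushout (D := BD) (D' := B) MD PD.asIdeal P.asIdeal
  exact Module.Flat.of_linearEquiv ((AlgebraTensorModule.congr
    (LinearEquiv.refl (Localization.AtPrime P.asIdeal) (Localization.AtPrime P.asIdeal))
    (AlgebraTensorModule.cancelBaseChange C₀ CD C C M₀)).restrictScalars B).symm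

/-- The fibre criterion of flatness at a prime, finite presentation, any base. -/
theorem flat_of_goodAt {A B C : Type u} [CommRing A] [CommRing B] [CommRing C]
    [Algebra A B] [Algebra B C] [Algebra A C] [IsScalarTower A B C] [Algebra.FinitePresentation A B]
    [Algebra.FinitePresentation B C] (M : Type u) [AddCommGroup M] [Module C M] [Module.FinitePresentation C M]
    [Module A M] [IsScalarTower A C M] [Module B M] [IsScalarTower B C M] [Module.Flat A M]
    (P : PrimeSpectrum C) (h : GoodAt A B M P) :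
    Module.Flat B (Localization.AtPrime P.asIdeal ⊗[C] M) := by
  classical
  obtain ⟨m, π, hπ⟩ := Module.Finite.exists_fin' C M
  obtain ⟨w, hw⟩ := (Module.FinitePresentation.fg_ker π hπ : (LinearMap.ker π).FG)
  let Q := Algebra.Presentation.ofFinitePresentation B C
  choose g hg using fun c : C => Q.toGenerators.algebraMap_surjective c
  let t : Set B := Q.coeffs ∪ ⋃ v ∈ (w : Set (Fin m → C)), ⋃ i, ((g (v i)).coeffs : Set B)
  have ht : t.Finite := Q.finite_coeffs.union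
    (w.finite_toSet.biUnion fun v _ => Set.finite_iUnion fun i => Finset.finite_toSet _)
  obtain ⟨A₀, B₀, _, _, e, hN, hB₀, hsub⟩ := Cons62.exists_model (A := A) (B := B) ht
  let β : B₀ →+* B := e.toRingHom.comp Algebra.TensorProduct.includeRight.toRingHom
  letI : Algebra B₀ B := β.toAlgebra
  letI : Algebra B₀ C := ((algebraMap B C).comp β).toAlgebra
  have : IsScalarTower B₀ B C := .of_algebraMap_eq' rfl
  have : Q.HasCoeffs B₀ := ⟨fun x hx => hsub (Or.inl hx)⟩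
  let C₀ := Q.ModelOfHasCoeffs B₀
  let eC := Q.tensorModelOfHasCoeffsEquiv B₀
  let γ : C₀ →+* C := eC.toRingHom.comp Algebra.TensorProduct.includeRight.toRingHom
  letI : Algebra C₀ C := γ.toAlgebra
  have hBC : IsScalarTower B₀ C₀ C := IsScalarTower.of_algebraMap_eq (R := B₀) (S := C₀) (A := C) fun b => by
    show algebraMap B C (β b) = eC (1 ⊗ₜ algebraMap B₀ C₀ b)
    rw [show (1 : B) ⊗ₜ[B₀] algebraMap B₀ C₀ b = algebraMap B (B ⊗[B₀] C₀) (β b) by
      rw [Algebra.TensorProduct.algebraMap_apply, Algebra.algebraMap_self_apply, Algebra.algebraMap_eq_smul_one,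
        ← smul_tmul, Algebra.smul_def, mul_one]
      rfl, AlgEquiv.commutes]
  have : IsScalarTower A₀ B₀ B := IsScalarTower.of_algebraMap_eq (R := A₀) (S := B₀) (A := B) fun a => by
    show _ = e (1 ⊗ₜ algebraMap A₀ B₀ a)
    rw [show (1 : A) ⊗ₜ[A₀] algebraMap A₀ B₀ a = algebraMap A (A ⊗[A₀] B₀) (algebraMap A₀ A a) by
      rw [Algebra.TensorProduct.algebraMap_apply, Algebra.algebraMap_self_apply, Algebra.algebraMap_eq_smul_one,
        ← smul_tmul, Algebra.smul_def, mul_one], AlgEquiv.commutes, ← IsScalarTower.algebraMap_apply]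
  have : IsScalarTower A₀ C₀ C := IsScalarTower.of_algebraMap_eq (R := A₀) (S := C₀) (A := C) fun a => by
    rw [IsScalarTower.algebraMap_apply A₀ B C, IsScalarTower.algebraMap_apply A₀ B₀ B,
      ← IsScalarTower.algebraMap_apply B₀ B C, IsScalarTower.algebraMap_apply B₀ C₀ C,
      ← IsScalarTower.algebraMap_apply A₀ B₀ C₀]
  have hB : Algebra.IsPushout A₀ A B₀ B := isPushout_of_equiv e fun _ => rfl
  have h2 : Algebra.IsPushout B₀ B C₀ C := isPushout_of_equiv eC fun _ => rfl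
  have : Algebra.IsPushout A₀ B₀ A B := hB.symm
  have : Algebra.IsPushout B₀ C₀ B C := h2.symm
  have hC : Algebra.IsPushout A₀ A C₀ C :=
    ((Algebra.IsPushout.comp_iff A₀ B₀ A (S' := B) (T := C₀) (T' := C)).mpr inferInstance).symm
  choose l hl using fun (v : ↥(w : Set (Fin m → C))) (i : Fin m) => show v.1 i ∈ Set.range γ by
    obtain ⟨y, hy⟩ : g (v.1 i) ∈ Set.range (MvPolynomial.map (algebraMap B₀ B)) := by
      rw [MvPolynomial.mem_range_map_iff_coeffs_subset]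
      exact fun x hx => hsub (Or.inr (Set.mem_biUnion v.2 (Set.mem_iUnion.mpr ⟨i, hx⟩)))
    refine ⟨Ideal.Quotient.mk _ y, ?_⟩
    show Q.tensorModelOfHasCoeffsEquiv B₀ (1 ⊗ₜ Ideal.Quotient.mk _ y) = v.1 i
    rw [Q.tensorModelOfHasCoeffsEquiv_tmul, map_one, one_mul, ← MvPolynomial.aeval_map_algebraMap B, hy,
      ← Q.algebraMap_apply]
    exact hg (v.1 i)
  let e0 : C ⊗[C₀] C₀ ≃ₐ[C] C := Algebra.TensorProduct.rid C₀ C C
  have hco : ∀ v, Stage62.coord e0 (l v) = v.1 := fun v => funext fun i => by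
    show Algebra.TensorProduct.rid C₀ C C ((1 : C) ⊗ₜ l v i) = _
    rw [Algebra.TensorProduct.rid_tmul, Algebra.smul_def, mul_one]
    exact hl v i
  have hspan : Submodule.span C (Set.range fun v => Stage62.coord e0 (l v)) = LinearMap.ker π := by
    rw [← hw]
    congr 1
    rw [funext hco, Subtype.range_coe]
  let eM := Stage62.quotEquiv e0 l ≪≫ₗ (Submodule.quotEquivOfEq _ _ hspan).restrictScalars C ≪≫ₗ
    (π.quotKerEquivOfSurjective hπ).restrictScalars C
  let M₀ := (Fin m → C₀) ⧸ Submodule.span C₀ (Set.range l)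
  have : Algebra.FiniteType A₀ B₀ := inferInstance
  have : Algebra.FiniteType B₀ C₀ := inferInstance
  have : Algebra.FiniteType A₀ C₀ := Algebra.FiniteType.trans (S := B₀) inferInstance inferInstance
  haveI := hN
  have hgood : GoodAt A₀ B₀ M₀ (PrimeSpectrum.comap (algebraMap C₀ C) P) := by
    rw [← goodAt_baseChange (A' := A) (B' := B) M₀ P]
    exact (goodAt_congr eM.symm P).mp h
  -- a stage where the module is flat
  have hflatA : Module.Flat A (A ⊗[A₀] M₀) :=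
    Module.Flat.of_linearEquiv ((Algebra.IsPushout.cancelBaseChange A₀ A C₀ C M₀).symm ≪≫ₗ
      eM.restrictScalars A)
  obtain ⟨D, hDfg, hD⟩ := FlatStage64.exists_fg_flat (R := A₀) (B := C₀) (M := M₀) (A := A) hflatA
  haveI : Algebra.FiniteType A₀ D := (Subalgebra.fg_iff_finiteType D).1 hDfg
  haveI : IsNoetherianRing D := Algebra.FiniteType.isNoetherianRing A₀ D
  haveI hflatD : Module.Flat D (D ⊗[A₀] M₀) := hD D le_rfl
  haveI : IsNoetherianRing (D ⊗[A₀] B₀) := Algebra.FiniteType.isNoetherianRing D (D ⊗[A₀] B₀)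
  haveI : IsNoetherianRing (D ⊗[A₀] C₀) := Algebra.FiniteType.isNoetherianRing D (D ⊗[A₀] C₀)
  let f : (D ⊗[A₀] B₀) →ₐ[D] (D ⊗[A₀] C₀) := Algebra.TensorProduct.map (AlgHom.id D D) (IsScalarTower.toAlgHom A₀ B₀ C₀)
  letI : Algebra (D ⊗[A₀] B₀) (D ⊗[A₀] C₀) := RingHom.toAlgebra (R := (D ⊗[A₀] B₀)) (S := (D ⊗[A₀] C₀)) f.toRingHom
  haveI : IsScalarTower D (D ⊗[A₀] B₀) (D ⊗[A₀] C₀) := IsScalarTower.of_algebraMap_eq (R := D) (S := (D ⊗[A₀] B₀)) (A := (D ⊗[A₀] C₀)) fun d => (f.commutes d).symm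
  letI : Algebra B₀ (D ⊗[A₀] C₀) := ((algebraMap C₀ (D ⊗[A₀] C₀)).comp (algebraMap B₀ C₀)).toAlgebra
  haveI : IsScalarTower B₀ C₀ (D ⊗[A₀] C₀) := IsScalarTower.of_algebraMap_eq (R := B₀) (S := C₀) (A := (D ⊗[A₀] C₀)) fun _ => rfl
  haveI : IsScalarTower B₀ (D ⊗[A₀] B₀) (D ⊗[A₀] C₀) := IsScalarTower.of_algebraMap_eq (R := B₀) (S := (D ⊗[A₀] B₀)) (A := (D ⊗[A₀] C₀)) fun b => by
    show (1 : D) ⊗ₜ[A₀] algebraMap B₀ C₀ b = f ((1 : D) ⊗ₜ[A₀] b)
    simp [f]
  let γB : (D ⊗[A₀] B₀) →ₐ[D] B := Algebra.TensorProduct.lift (Algebra.ofId D B) (IsScalarTower.toAlgHom A₀ B₀ B) fun _ _ => .all _ _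
  let γC : (D ⊗[A₀] C₀) →ₐ[D] C := Algebra.TensorProduct.lift (Algebra.ofId D C) (IsScalarTower.toAlgHom A₀ C₀ C) fun _ _ => .all _ _
  letI : Algebra (D ⊗[A₀] B₀) B := RingHom.toAlgebra (R := (D ⊗[A₀] B₀)) (S := B) γB.toRingHom
  letI : Algebra (D ⊗[A₀] C₀) C := RingHom.toAlgebra (R := (D ⊗[A₀] C₀)) (S := C) γC.toRingHom
  haveI : IsScalarTower D (D ⊗[A₀] B₀) B := IsScalarTower.of_algebraMap_eq (R := D) (S := (D ⊗[A₀] B₀)) (A := B) fun d => (γB.commutes d).symm
  haveI : IsScalarTower D (D ⊗[A₀] C₀) C := IsScalarTower.of_algebraMap_eq (R := D) (S := (D ⊗[A₀] C₀)) (A := C) fun d => (γC.commutes d).symm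
  haveI : IsScalarTower B₀ (D ⊗[A₀] B₀) B := IsScalarTower.of_algebraMap_eq (R := B₀) (S := (D ⊗[A₀] B₀)) (A := B) fun b => by
    show _ = γB ((1 : D) ⊗ₜ[A₀] b)
    simp [γB]
  haveI : IsScalarTower C₀ (D ⊗[A₀] C₀) C := IsScalarTower.of_algebraMap_eq (R := C₀) (S := (D ⊗[A₀] C₀)) (A := C) fun c => by
    show _ = γC ((1 : D) ⊗ₜ[A₀] c)
    simp [γC]
  letI : Algebra (D ⊗[A₀] B₀) C := ((algebraMap B C).comp (algebraMap (D ⊗[A₀] B₀) B)).toAlgebra
  haveI : IsScalarTower (D ⊗[A₀] B₀) B C := IsScalarTower.of_algebraMap_eq (R := (D ⊗[A₀] B₀)) (S := B) (A := C) fun _ => rfl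
  haveI : IsScalarTower B₀ (D ⊗[A₀] B₀) C := IsScalarTower.of_algebraMap_eq (R := B₀) (S := (D ⊗[A₀] B₀)) (A := C) fun b => by
    rw [IsScalarTower.algebraMap_apply (D ⊗[A₀] B₀) B C, ← IsScalarTower.algebraMap_apply B₀ (D ⊗[A₀] B₀) B,
      ← IsScalarTower.algebraMap_apply B₀ B C]
  haveI : IsScalarTower B₀ (D ⊗[A₀] C₀) C := IsScalarTower.of_algebraMap_eq (R := B₀) (S := (D ⊗[A₀] C₀)) (A := C) fun b => by
    rw [IsScalarTower.algebraMap_apply B₀ C₀ (D ⊗[A₀] C₀), ← IsScalarTower.algebraMap_apply C₀ (D ⊗[A₀] C₀) C,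
      ← IsScalarTower.algebraMap_apply B₀ C₀ C]
  haveI : IsScalarTower (D ⊗[A₀] B₀) (D ⊗[A₀] C₀) C := IsScalarTower.of_algebraMap_eq (R := (D ⊗[A₀] B₀)) (S := (D ⊗[A₀] C₀)) (A := C) fun z => by
    show algebraMap B C (γB z) = γC (f z)
    induction z using TensorProduct.induction_on with
    | zero => simp
    | add x y hx hy => simp only [map_add, hx, hy]
    | tmul d b =>
      simp [γB, γC, f, ← IsScalarTower.algebraMap_apply]
  haveI : IsScalarTower A₀ (D ⊗[A₀] B₀) (D ⊗[A₀] C₀) := IsScalarTower.to₁₃₄ A₀ D (D ⊗[A₀] B₀) (D ⊗[A₀] C₀)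
  have hp1 : Algebra.IsPushout B₀ C₀ (D ⊗[A₀] B₀) (D ⊗[A₀] C₀) := by
    haveI : Algebra.IsPushout A₀ B₀ D (D ⊗[A₀] B₀) := Algebra.IsPushout.symm inferInstance
    haveI : Algebra.IsPushout A₀ C₀ D (D ⊗[A₀] C₀) := Algebra.IsPushout.symm inferInstance
    exact (Algebra.IsPushout.comp_iff A₀ B₀ D (S' := (D ⊗[A₀] B₀)) (T := C₀) (T' := (D ⊗[A₀] C₀))).mp inferInstance
  haveI : Algebra.IsPushout B₀ (D ⊗[A₀] B₀) C₀ (D ⊗[A₀] C₀) := hp1.symm
  haveI hp2 : Algebra.IsPushout (D ⊗[A₀] B₀) B (D ⊗[A₀] C₀) C :=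
    (Algebra.IsPushout.comp_iff B₀ (D ⊗[A₀] B₀) C₀ (S' := (D ⊗[A₀] C₀)) (T := B) (T' := C)).mp h2
  haveI := flat_of_goodAt_stage (A₀ := A₀) (B₀ := B₀) (D := D) (BD := D ⊗[A₀] B₀) (CD := D ⊗[A₀] C₀) (B := B) M₀ P hgood
  exact Module.Flat.of_linearEquiv ((AlgebraTensorModule.congr
    (LinearEquiv.refl (Localization.AtPrime P.asIdeal) (Localization.AtPrime P.asIdeal)) eM).restrictScalars B).symm

end Groth.Agent.CAlgH2
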