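import Mathlib
import Groth.Prelude.Def_CAlgX

namespace Groth.Agent.CAlgH2

universe u

open TensorProduct

variable {R : Type u} [CommRing R]

theorem mem_smul_top_iff_one_tmul (K : Ideal R) {M : Type*} [AddCommGroup M] [Module R M] (y : M) :
    y ∈ K • (⊤ : Submodule R M) ↔ (Submodule.Quotient.mk (1 : R) : R ⧸ K) ⊗ₜ[R] y = 0 := by
  rw [← (TensorProduct.quotTensorEquivQuotSMul M K).map_eq_zero_iff]
  erw [TensorProduct.quotTensorEquivQuotSMul_mk_tmul, one_smul, Submodule.Quotient.mk_eq_zero]

theorem mem_smul_top_of_universallyInjective {A B : Type u} [AddCommGroup A] [Module R A]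
    [AddCommGroup B] [Module R B] {f : A →ₗ[R] B} (hf : CAlgX.UniversallyInjective R f)
    (I : Ideal R) {x : A} (h : f x ∈ I • (⊤ : Submodule R B)) : x ∈ I • (⊤ : Submodule R A) := by
  rw [mem_smul_top_iff_one_tmul] at h ⊢
  have h' : f.lTensor (R ⧸ I) ((Submodule.Quotient.mk (1 : R) : R ⧸ I) ⊗ₜ[R] x) =
      f.lTensor (R ⧸ I) 0 := by rw [LinearMap.lTensor_tmul, h, map_zero]
  exact (LinearMap.lTensor_inj_iff_rTensor_inj _ f).2 (hf _) h'

/-- A module killed modulo `I` lifts along surjections from modules killed by `I`. -/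
theorem exists_lift_of_projective_mod (I : Ideal R) {P : Type u} [AddCommGroup P] [Module R P]
    (hP : Module.Projective (R ⧸ I) ((R ⧸ I) ⊗[R] P)) {A B : Type u} [AddCommGroup A] [Module R A]
    [AddCommGroup B] [Module R B] (g : A →ₗ[R] B) (φ : P →ₗ[R] B) (hg : Function.Surjective g)
    (hkill : ∀ c ∈ I, ∀ a : A, c • a = 0) : ∃ h : P →ₗ[R] A, g ∘ₗ h = φ := by
  letI : Module (R ⧸ I) A := (show Module.IsTorsionBySet R A (I : Set R) from fun a c => hkill c c.2 a).module
  have hkillB : Module.IsTorsionBySet R B (I : Set R) := fun b c => by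
    obtain ⟨a, rfl⟩ := hg b
    rw [← map_smul, hkill c c.2 a, map_zero]
  letI : Module (R ⧸ I) B := hkillB.module
  haveI : IsScalarTower R (R ⧸ I) A := Module.IsTorsionBySet.isScalarTower (fun a c => hkill c c.2 a)
  haveI : IsScalarTower R (R ⧸ I) B := Module.IsTorsionBySet.isScalarTower hkillB
  have hsur : Function.Surjective (algebraMap R (R ⧸ I)) := Ideal.Quotient.mk_surjective
  obtain ⟨h, hh⟩ := Module.projective_lifting_property (g.extendScalarsOfSurjective hsur)
    (LinearMap.liftBaseChange (R ⧸ I) φ) hg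
  refine ⟨(h.restrictScalars R).comp (TensorProduct.mk R (R ⧸ I) P 1), LinearMap.ext fun p => ?_⟩
  have := LinearMap.congr_fun hh (1 ⊗ₜ p)
  simpa using this

section

variable (I : Ideal R) (F : Type u) [AddCommGroup F] [Module R F]

theorem smul_top_le_comap (f : Module.End R F) :
    I • (⊤ : Submodule R F) ≤ (I • (⊤ : Submodule R F)).comap f := by
  rw [← Submodule.map_le_iff_le_comap, Submodule.map_smul'']
  exact Submodule.smul_mono le_rfl le_top

/-- reduction of endomorphisms modulo an ideal -/
noncomputable def redEnd : Module.End R F →+* Module.End R (F ⧸ I • (⊤ : Submodule R F)) where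
  toFun f := Submodule.mapQ _ _ f (smul_top_le_comap I F f)
  map_one' := by ext; rfl
  map_mul' _ _ := by ext; rfl
  map_zero' := by ext; rfl
  map_add' _ _ := by ext; rfl

theorem redEnd_apply_mk (f : Module.End R F) (x : F) :
    redEnd I F f (Submodule.Quotient.mk x) = Submodule.Quotient.mk (f x) := rfl

theorem isNilpotent_of_mem_ker_redEnd {n : ℕ} (hn : I ^ n = 0) (f : Module.End R F)
    (hf : f ∈ RingHom.ker (redEnd I F)) : IsNilpotent f := by
  have hf1 : ∀ x, f x ∈ I • (⊤ : Submodule R F) := fun x =>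
    (Submodule.Quotient.mk_eq_zero _).1 (LinearMap.congr_fun (RingHom.mem_ker.1 hf) (Submodule.Quotient.mk x))
  have hk : ∀ (k : ℕ) (x : F), (f ^ k) x ∈ I ^ k • (⊤ : Submodule R F) := by
    intro k
    induction k with
    | zero => intro x; simp
    | succ k ih =>
      intro x
      rw [pow_succ' f k, Module.End.mul_apply, pow_succ I k, Submodule.mul_smul]
      refine Submodule.smul_induction_on (ih x) (fun c hc y _ => ?_) fun a b ha hb => ?_
      · rw [map_smul]; exact Submodule.smul_mem_smul hc (hf1 y)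
      · rw [map_add]; exact add_mem ha hb
  refine ⟨n, LinearMap.ext fun x => ?_⟩
  simpa [hn] using hk n x

theorem eq_top_of_nilpotent {n : ℕ} (hn : I ^ n = 0) (N : Submodule R F)
    (h : (⊤ : Submodule R F) ≤ N ⊔ I • ⊤) : N = ⊤ := by
  rw [eq_top_iff]
  have hk : ∀ k : ℕ, (⊤ : Submodule R F) ≤ N ⊔ I ^ k • ⊤ := by
    intro k
    induction k with
    | zero => simp
    | succ k ih =>
      refine ih.trans (sup_le le_sup_left ?_)
      refine (Submodule.smul_mono le_rfl h).trans ?_
      rw [Submodule.smul_sup, pow_succ, Submodule.mul_smul]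
      exact sup_le (Submodule.smul_le_right.trans le_sup_left) le_sup_right
  simpa [hn] using hk n

theorem eq_bot_of_nilpotent {n : ℕ} (hn : I ^ n = 0) (N : Submodule R F) (h : N ≤ I • N) :
    N = ⊥ := by
  rw [eq_bot_iff]
  have hk : ∀ k : ℕ, N ≤ I ^ k • N := by
    intro k
    induction k with
    | zero => simp
    | succ k ih =>
      rw [pow_succ, Submodule.mul_smul]
      exact ih.trans (Submodule.smul_mono le_rfl h)
  simpa [hn] using hk n

end

end Groth.Agent.CAlgH2
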