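import Mathlib
import Groth.Prelude.Def_CAlgX
import Groth.Agent.FlatStage64.Syzygy
import Groth.Agent.Fib62.InjCokerMain

/-!
# Finitely presented models over essentially finitely presented local algebras
-/

set_option autoImplicit false
set_option linter.style.haveILetI false

universe u

open TensorProduct

namespace Groth.Agent.CAlgH2

theorem isLocalization_atPrime_of_isLocalRing {C S : Type u} [CommRing C] [CommRing S] [Algebra C S]
    [IsLocalRing S] (W : Submonoid C) [IsLocalization W S] :
    IsLocalization ((IsLocalRing.maximalIdeal S).comap (algebraMap C S)).primeCompl S := by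
  set P := (IsLocalRing.maximalIdeal S).comap (algebraMap C S)
  refine IsLocalization.of_le W P.primeCompl (fun w hw hwP => ?_) fun x hx => ?_
  · exact (IsLocalRing.mem_maximalIdeal _).1 hwP (IsLocalization.map_units S ⟨w, hw⟩)
  · exact IsLocalRing.notMem_maximalIdeal.1 hx

theorem exists_fp_model {C S M : Type u} [CommRing C] [CommRing S] [Algebra C S] (W : Submonoid C)
    [IsLocalization W S] [AddCommGroup M] [Module S M] [Module C M] [IsScalarTower C S M]
    [Module.FinitePresentation S M] :
    ∃ (M₀ : Type u) (_ : AddCommGroup M₀) (_ : Module C M₀) (ι : M₀ →ₗ[C] M),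
      Module.FinitePresentation C M₀ ∧ IsLocalizedModule W ι := by
  classical
  obtain ⟨n, K, e, hK⟩ := Module.FinitePresentation.exists_fin S M
  let π : (Fin n → S) →ₗ[S] M := e.symm.toLinearMap ∘ₗ K.mkQ
  have hπ : Function.Surjective π := e.symm.surjective.comp K.mkQ_surjective
  obtain ⟨m, v, hv⟩ := Submodule.fg_iff_exists_fin_generating_family.1 hK
  obtain ⟨b, hb⟩ := IsLocalization.exist_integer_multiples W Finset.univ (fun p : Fin m × Fin n => v p.1 p.2)
  choose a ha using fun p => hb p (Finset.mem_univ p)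
  let v₀ : Fin m → Fin n → C := fun k i => a (k, i)
  let v' : Fin m → Fin n → S := fun k i => algebraMap C S (a (k, i))
  have hv' : ∀ k, v' k = (b : C) • v k := fun k => funext fun i => ha (k, i)
  have hker : LinearMap.ker π = Submodule.span S (Set.range v') := by
    rw [LinearEquiv.ker_comp, Submodule.ker_mkQ, ← hv]
    have hbu := IsLocalization.map_units S b
    refine le_antisymm (Submodule.span_le.2 ?_) (Submodule.span_le.2 ?_)
    · rintro _ ⟨k, rfl⟩
      have h1 : v k = (hbu.unit⁻¹ : Sˣ).val • v' k := by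
        rw [hv' k, ← algebraMap_smul S (b : C) (v k), smul_smul, IsUnit.val_inv_mul, one_smul]
      rw [h1]
      exact Submodule.smul_mem _ _ (Submodule.subset_span ⟨k, rfl⟩)
    · rintro _ ⟨k, rfl⟩
      rw [hv' k, ← algebraMap_smul S (b : C) (v k)]
      exact Submodule.smul_mem _ _ (Submodule.subset_span ⟨k, rfl⟩)
  let M₀ := (Fin n → C) ⧸ Submodule.span C (Set.range v₀)
  obtain ⟨eM⟩ := Groth.Agent.FlatStage64.exists_module_model π hπ v' hker v₀ fun k i => rfl
  refine ⟨M₀, inferInstance, inferInstance, (eM.symm.toLinearMap.restrictScalars C) ∘ₗ TensorProduct.mk C S M₀ 1,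
    Module.finitePresentation_of_surjective _ (Submodule.mkQ_surjective _) ?_, ?_⟩
  · rw [Submodule.ker_mkQ]
    exact Submodule.fg_span (Set.finite_range _)
  · rw [isLocalizedModule_iff_isBaseChange W S]
    exact IsBaseChange.of_equiv eM.symm fun _ => rfl

variable {R S M N : Type u} [CommRing R] [CommRing S] [IsLocalRing R] [IsLocalRing S] [Algebra R S]
  [IsLocalHom (algebraMap R S)]
  [AddCommGroup M] [Module S M] [Module R M] [IsScalarTower R S M] [Module.FinitePresentation S M]
  [AddCommGroup N] [Module S N] [Module R N] [IsScalarTower R S N] [Module.FinitePresentation S N]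
  [Module.Flat R N]

theorem injective_and_flat_coker (hS : CAlgX.IsEssFinitePresentation R S) (u : M →ₗ[S] N)
    (hu : ∀ x : M, u x ∈ (IsLocalRing.maximalIdeal R).map (algebraMap R S) • (⊤ : Submodule S N) →
      x ∈ (IsLocalRing.maximalIdeal R).map (algebraMap R S) • (⊤ : Submodule S M)) :
    Function.Injective u ∧ Module.Flat R (N ⧸ LinearMap.range u) := by
  classical
  obtain ⟨C, _, _, _, _, W, hC, hW⟩ := hS
  haveI := hC
  haveI := hW
  haveI := isLocalization_atPrime_of_isLocalRing (S := S) W
  let Q : Ideal C := (IsLocalRing.maximalIdeal S).comap (algebraMap C S)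
  let P : PrimeSpectrum C := ⟨Q, inferInstance⟩
  letI : Module C M := Module.compHom M (algebraMap C S)
  haveI : IsScalarTower C S M := .of_algebraMap_smul fun _ _ => rfl
  letI : Module C N := Module.compHom N (algebraMap C S)
  haveI : IsScalarTower C S N := .of_algebraMap_smul fun _ _ => rfl
  haveI : IsScalarTower R C M := .of_algebraMap_smul fun r x => by
    rw [← algebraMap_smul S (algebraMap R C r) x, ← IsScalarTower.algebraMap_apply, algebraMap_smul]
  haveI : IsScalarTower R C N := .of_algebraMap_smul fun r x => by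
    rw [← algebraMap_smul S (algebraMap R C r) x, ← IsScalarTower.algebraMap_apply, algebraMap_smul]
  haveI : IsLocalization P.asIdeal.primeCompl S := inferInstanceAs (IsLocalization Q.primeCompl S)
  obtain ⟨M₀, _, _, ιM, hM₀, hιM⟩ := exists_fp_model (C := C) (S := S) (M := M) P.asIdeal.primeCompl
  obtain ⟨N₀, _, _, ιN, hN₀, hιN⟩ := exists_fp_model (C := C) (S := S) (M := N) P.asIdeal.primeCompl
  haveI := hM₀; haveI := hN₀; haveI := hιM; haveI := hιN
  letI : Module R M₀ := Module.compHom M₀ (algebraMap R C)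
  haveI : IsScalarTower R C M₀ := .of_algebraMap_smul fun _ _ => rfl
  letI : Module R N₀ := Module.compHom N₀ (algebraMap R C)
  haveI : IsScalarTower R C N₀ := .of_algebraMap_smul fun _ _ => rfl
  obtain ⟨u₀, s, hus⟩ := Module.FinitePresentation.exists_lift_of_isLocalizedModule P.asIdeal.primeCompl
    (f := ιN) ((u.restrictScalars C) ∘ₗ ιM)
  let Cp := Localization.AtPrime P.asIdeal
  let φM : Cp ⊗[C] M₀ ≃ₗ[C] M :=
    IsLocalizedModule.linearEquiv P.asIdeal.primeCompl (TensorProduct.mk C Cp M₀ 1) ιM
  let φN : Cp ⊗[C] N₀ ≃ₗ[C] N :=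
    IsLocalizedModule.linearEquiv P.asIdeal.primeCompl (TensorProduct.mk C Cp N₀ 1) ιN
  have hus' : ∀ m, ιN (u₀ m) = (s : C) • u (ιM m) := fun m => congr($hus m)
  have key : ∀ z, φN (u₀.baseChange Cp z) = (s : C) • u (φM z) := by
    have h : φN.toLinearMap ∘ₗ (u₀.baseChange Cp).restrictScalars C =
        ((s : C) • u.restrictScalars C) ∘ₗ φM.toLinearMap := by
      refine IsLocalizedModule.ext P.asIdeal.primeCompl (TensorProduct.mk C Cp M₀ 1)
        (IsLocalizedModule.map_units ιN) (LinearMap.ext fun m => ?_)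
      show φN (u₀.baseChange Cp (1 ⊗ₜ[C] m)) = (s : C) • u (φM (1 ⊗ₜ[C] m))
      have h1 : ∀ x, φN ((1 : Cp) ⊗ₜ[C] x) = ιN x :=
        fun x => IsLocalizedModule.linearEquiv_apply P.asIdeal.primeCompl (TensorProduct.mk C Cp N₀ 1) ιN x
      have h2 : ∀ x, φM ((1 : Cp) ⊗ₜ[C] x) = ιM x :=
        fun x => IsLocalizedModule.linearEquiv_apply P.asIdeal.primeCompl (TensorProduct.mk C Cp M₀ 1) ιM x
      rw [LinearMap.baseChange_tmul, h1, h2, hus']
    exact fun z => congr($h z)
  have hsu : IsUnit (algebraMap C S (s : C)) := IsLocalization.map_units S s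
  have hsN : ∀ y : N, (s : C) • y = algebraMap C S (s : C) • y := fun y => (algebraMap_smul S _ y).symm
  have hp : P.asIdeal.under R = IsLocalRing.maximalIdeal R := by
    show (Q.comap (algebraMap R C)) = _
    rw [Ideal.comap_comap, ← IsScalarTower.algebraMap_eq,
      IsLocalRing.maximalIdeal_comap]
  haveI : IsScalarTower R C (Cp ⊗[C] M₀) := inferInstance
  have hfib : Groth.Agent.Fib62.InjFib R u₀ P := by
    rw [Groth.Agent.Fib62.injFib_iff_mem]
    intro z hz
    rw [hp] at hz ⊢
    rw [Groth.Agent.Fib62.mem_map_smul_iff] at hz ⊢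
    have h1 : φN (u₀.baseChange Cp z) ∈ IsLocalRing.maximalIdeal R • (⊤ : Submodule R N) := by
      have h2 := Submodule.mem_map_of_mem (f := φN.toLinearMap.restrictScalars R) hz
      rw [Submodule.map_smul''] at h2
      exact Submodule.smul_mono le_rfl le_top h2
    rw [key, hsN, ← map_smul, ← Groth.Agent.Fib62.mem_map_smul_iff (S := S)] at h1
    have h3' := hu _ h1
    have h3 := Submodule.smul_mem _ (hsu.unit⁻¹ : Sˣ).val h3'
    rw [smul_smul, IsUnit.val_inv_mul, one_smul] at h3
    rw [Groth.Agent.Fib62.mem_map_smul_iff] at h3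
    have h4 := Submodule.mem_map_of_mem (f := φM.symm.toLinearMap.restrictScalars R) h3
    rw [Submodule.map_smul''] at h4
    have h5 := Submodule.smul_mono le_rfl (le_top : _ ≤ (⊤ : Submodule R (Cp ⊗[C] M₀))) h4
    simpa using h5
  haveI hflatN : Module.Flat R (Cp ⊗[C] N₀) := Module.Flat.of_linearEquiv (φN.restrictScalars R)
  obtain ⟨hinj, hflat⟩ := Groth.Agent.Fib62.injAt_and_flat_coker_of_injFib (A := R) u₀ P hflatN hfib
  have hinj' := (Groth.Agent.Fib62.injAt_iff u₀ P).1 hinj
  refine ⟨(injective_iff_map_eq_zero u).2 fun x hx => ?_, ?_⟩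
  · obtain ⟨z, rfl⟩ := φM.surjective x
    have : u₀.baseChange Cp z = 0 := φN.injective (by rw [key, hx, smul_zero, map_zero])
    rw [hinj' (this.trans (map_zero _).symm), map_zero]
  · haveI := hflat
    let e1 := ((Groth.Agent.Fib62.cokerBaseChange u₀ Cp).restrictScalars C).symm ≪≫ₗ
      (Submodule.Quotient.restrictScalarsEquiv C (LinearMap.range (u₀.baseChange Cp))).symm ≪≫ₗ
      Submodule.Quotient.equiv ((LinearMap.range (u₀.baseChange Cp)).restrictScalars C)
        ((LinearMap.range u).restrictScalars C) φN (by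
          ext y
          constructor
          · rintro ⟨_, ⟨z, rfl⟩, rfl⟩
            exact ⟨algebraMap C S (s : C) • φM z, by rw [map_smul, ← hsN]; exact (key z).symm⟩
          · rintro ⟨x, rfl⟩
            obtain ⟨z, hz⟩ := φM.surjective ((hsu.unit⁻¹ : Sˣ).val • x)
            refine ⟨u₀.baseChange Cp z, ⟨z, rfl⟩, ?_⟩
            show φN _ = u x
            rw [key, hz, hsN, map_smul, smul_smul, IsUnit.mul_val_inv, one_smul]) ≪≫ₗ
      Submodule.Quotient.restrictScalarsEquiv C (LinearMap.range u)
    exact Module.Flat.of_linearEquiv (e1.restrictScalars R).symm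

end Groth.Agent.CAlgH2
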