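import Mathlib
import Groth.Agent.CAlgH2.LocalModel
import Groth.Agent.CAlgH2.FibCrit
import Groth.Agent.SpFP87.EtSpread
import Groth.Agent.FlatCrit65.Fibre

/-!
# The fibre criterion of flatness for essentially finitely presented local algebras
-/

set_option autoImplicit false
set_option linter.style.haveILetI false

universe u

open TensorProduct

namespace Groth.Agent.CAlgH2

theorem flat_left_of_faithfullyFlat {R S M : Type u} [CommRing R] [CommRing S] [Algebra R S]
    [AddCommGroup M] [Module S M] [Module R M] [IsScalarTower R S M] [Module.Flat R M]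
    [Module.FaithfullyFlat S M] : Module.Flat R S := by
  rw [Module.Flat.iff_lTensor_preserves_injective_linearMap]
  intro P Q _ _ _ _ v hv
  let w : S ⊗[R] P →ₗ[S] S ⊗[R] Q := AlgebraTensorModule.lTensor S S v
  show Function.Injective w
  refine (Module.FaithfullyFlat.lTensor_injective_iff_injective S M w).mp ?_
  let eP : M ⊗[S] (S ⊗[R] P) ≃ₗ[S] M ⊗[R] P := AlgebraTensorModule.cancelBaseChange R S S M P
  let eQ : M ⊗[S] (S ⊗[R] Q) ≃ₗ[S] M ⊗[R] Q := AlgebraTensorModule.cancelBaseChange R S S M Q
  have key : ∀ t, eQ (w.lTensor M t) = v.lTensor M (eP t) := by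
    intro t
    induction t using TensorProduct.induction_on with
    | zero => simp
    | add x y hx hy => simp only [map_add, hx, hy]
    | tmul m x =>
      induction x using TensorProduct.induction_on with
      | zero => simp
      | add a b ha hb => simp only [tmul_add, map_add, ha, hb]
      | tmul a b => simp [eP, eQ, w]
  intro x y hxy
  apply eP.injective
  apply Module.Flat.lTensor_preserves_injective_linearMap (M := M) v hv
  rw [← key, ← key, hxy]

section Core

variable {R S S' M : Type u} [CommRing R] [CommRing S] [CommRing S'] [IsLocalRing R] [IsLocalRing S]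
  [IsLocalRing S'] [Algebra R S] [Algebra S S'] [Algebra R S'] [IsScalarTower R S S']
  [IsLocalHom (algebraMap R S)] [IsLocalHom (algebraMap S S')]
  [AddCommGroup M] [Module S' M] [Module S M] [IsScalarTower S S' M]

theorem flat_of_models {B C M₀ : Type u} [CommRing B] [CommRing C] [Algebra R B] [Algebra R C] [Algebra B C]
    [IsScalarTower R B C] [Algebra.FinitePresentation R B] [Algebra.FinitePresentation B C]
    [Algebra B S] [IsScalarTower R B S]
    [IsLocalization ((IsLocalRing.maximalIdeal S).comap (algebraMap B S)).primeCompl S]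
    [Algebra C S'] [IsScalarTower R C S'] [Algebra B S'] [IsScalarTower B S S'] [IsScalarTower B C S']
    [IsLocalization ((IsLocalRing.maximalIdeal S').comap (algebraMap C S')).primeCompl S']
    [AddCommGroup M₀] [Module C M₀] [Module R M₀] [IsScalarTower R C M₀] [Module.Flat R M₀]
    [Module.FinitePresentation C M₀] (eM : S' ⊗[C] M₀ ≃ₗ[S'] M)
    (hfib : Module.Flat (S ⧸ (IsLocalRing.maximalIdeal R).map (algebraMap R S))
      ((S ⧸ (IsLocalRing.maximalIdeal R).map (algebraMap R S)) ⊗[S] M)) :
    Module.Flat S M := by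
  let Q : PrimeSpectrum C :=
    ⟨(IsLocalRing.maximalIdeal S').comap (algebraMap C S'), inferInstance⟩
  letI : Module B M₀ := Module.compHom M₀ (algebraMap B C)
  haveI : IsScalarTower B C M₀ := .of_algebraMap_smul fun _ _ => rfl
  letI : Module B M := Module.compHom M (algebraMap B S)
  haveI : IsScalarTower B S M := .of_algebraMap_smul fun _ _ => rfl
  haveI : IsScalarTower B S' M := .of_algebraMap_smul fun b x => by
    rw [IsScalarTower.algebraMap_apply B S S', algebraMap_smul, algebraMap_smul]
  have hq : Q.asIdeal.under B = (IsLocalRing.maximalIdeal S).comap (algebraMap B S) := by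
    show Ideal.comap (algebraMap B C) (Ideal.comap (algebraMap C S') _) = _
    rw [Ideal.comap_comap, ← IsScalarTower.algebraMap_eq B C S', IsScalarTower.algebraMap_eq B S S',
      ← Ideal.comap_comap, IsLocalRing.maximalIdeal_comap]
  have hp : Q.asIdeal.under R = IsLocalRing.maximalIdeal R := by
    show Ideal.comap (algebraMap R C) (Ideal.comap (algebraMap C S') _) = _
    rw [Ideal.comap_comap, ← IsScalarTower.algebraMap_eq R C S', IsScalarTower.algebraMap_eq R S S',
      ← Ideal.comap_comap, IsLocalRing.maximalIdeal_comap, IsLocalRing.maximalIdeal_comap]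
  haveI : IsLocalization.AtPrime S (Q.asIdeal.under B) := by
    simp only [IsLocalization.AtPrime, hq]
    infer_instance
  haveI : IsLocalization Q.asIdeal.primeCompl S' :=
    inferInstanceAs (IsLocalization ((IsLocalRing.maximalIdeal S').comap (algebraMap C S')).primeCompl S')
  let Lc := Localization.AtPrime Q.asIdeal
  let σ : Lc ≃ₐ[C] S' := IsLocalization.algEquiv Q.asIdeal.primeCompl Lc S'
  let e : Lc ⊗[C] M₀ ≃ₗ[B] M :=
    (AlgebraTensorModule.congr σ.toLinearEquiv (LinearEquiv.refl C M₀)).restrictScalars B ≪≫ₗ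
      eM.restrictScalars B
  have hgood : Groth.Agent.Fib62.GoodAt R B M₀ Q := by
    rw [Groth.Agent.Fib62.goodAt_iff_quotient M₀ Q S M e, hp]
    exact hfib
  haveI := flat_of_goodAt M₀ Q hgood
  haveI : Module.Flat B M := Module.Flat.of_linearEquiv e.symm
  exact (Module.flat_iff_of_isLocalization S (Q.asIdeal.under B).primeCompl M).mpr inferInstance

end Core

theorem fibre_criterion {R S S' M : Type u} [CommRing R] [CommRing S] [CommRing S']
    [IsLocalRing R] [IsLocalRing S] [IsLocalRing S'] [Algebra R S] [Algebra S S'] [Algebra R S']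
    [IsScalarTower R S S'] [IsLocalHom (algebraMap R S)] [IsLocalHom (algebraMap S S')]
    (hS : CAlgX.IsEssFinitePresentation R S) (hS' : CAlgX.IsEssFinitePresentation R S')
    [AddCommGroup M] [Module S' M] [Module S M] [Module R M] [IsScalarTower S S' M] [IsScalarTower R S' M]
    [IsScalarTower R S M] [Module.FinitePresentation S' M] [Nontrivial M] [Module.Flat R M]
    (hfib : Module.Flat (S ⧸ (IsLocalRing.maximalIdeal R).map (algebraMap R S))
      (M ⧸ (IsLocalRing.maximalIdeal R).map (algebraMap R S) • (⊤ : Submodule S M))) :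
    Module.Flat R S ∧ Module.Flat S M := by
  classical
  suffices hSM : Module.Flat S M by
    haveI := hSM
    haveI : Module.Finite S' M := inferInstance
    haveI : Module.FaithfullyFlat S M := Groth.Agent.FlatCrit65.faithfullyFlat_of_isLocalHom (S' := S')
    exact ⟨flat_left_of_faithfullyFlat (M := M), hSM⟩
  set J := (IsLocalRing.maximalIdeal R).map (algebraMap R S)
  have hfib' : Module.Flat (S ⧸ J) ((S ⧸ J) ⊗[S] M) := by
    let e : (S ⧸ J) ⊗[S] M ≃ₗ[S ⧸ J] M ⧸ J • (⊤ : Submodule S M) :=
      LinearEquiv.extendScalarsOfSurjective Ideal.Quotient.mk_surjective (TensorProduct.quotTensorEquivQuotSMul M J)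
    exact Module.Flat.of_linearEquiv e
  obtain ⟨B, _, _, _, _, WB, hB, hWB⟩ := hS
  obtain ⟨C, _, _, _, _, WC, hC, hWC⟩ := hS'
  haveI := hB; haveI := hWB; haveI := hC; haveI := hWC
  haveI := isLocalization_atPrime_of_isLocalRing (S := S) WB
  haveI := isLocalization_atPrime_of_isLocalRing (S := S') WC
  let P : PrimeSpectrum C := ⟨(IsLocalRing.maximalIdeal S').comap (algebraMap C S'), inferInstance⟩
  haveI : IsLocalization P.asIdeal.primeCompl S' :=
    inferInstanceAs (IsLocalization ((IsLocalRing.maximalIdeal S').comap (algebraMap C S')).primeCompl S')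
  letI : Module C M := Module.compHom M (algebraMap C S')
  haveI : IsScalarTower C S' M := .of_algebraMap_smul fun _ _ => rfl
  obtain ⟨M₀, _, _, ι, hM₀, hι⟩ := exists_fp_model (C := C) (S := S') (M := M) P.asIdeal.primeCompl
  haveI := hM₀; haveI := hι
  have hbc : IsBaseChange S' ι := IsLocalizedModule.isBaseChange P.asIdeal.primeCompl S' ι
  letI : Module R M₀ := Module.compHom M₀ (algebraMap R C)
  haveI : IsScalarTower R C M₀ := .of_algebraMap_smul fun _ _ => rfl
  let Cp := Localization.AtPrime P.asIdeal
  let σ : Cp ≃ₐ[C] S' := IsLocalization.algEquiv P.asIdeal.primeCompl Cp S'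
  haveI : IsScalarTower R C M := .of_algebraMap_smul fun r x => by
    rw [← algebraMap_smul S' (algebraMap R C r) x, ← IsScalarTower.algebraMap_apply, algebraMap_smul]
  have hflatP : Module.Flat R (Cp ⊗[C] M₀) :=
    Module.Flat.of_linearEquiv ((AlgebraTensorModule.congr σ.toLinearEquiv (LinearEquiv.refl C M₀)).restrictScalars R ≪≫ₗ
      hbc.equiv.restrictScalars R)
  obtain ⟨f, hf, hflatf⟩ := Groth.Agent.Fib62.exists_flat_away (A := R) P hflatP
  let C₁ := Localization.Away f
  haveI : Algebra.FinitePresentation C C₁ := IsLocalization.Away.finitePresentation f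
  haveI : Algebra.FinitePresentation R C₁ := Algebra.FinitePresentation.trans R C C₁
  have hfu : IsUnit (algebraMap C S' f) := IsLocalization.map_units S' (⟨f, hf⟩ : P.asIdeal.primeCompl)
  letI : Algebra C₁ S' := (IsLocalization.Away.lift f hfu).toAlgebra
  haveI : IsScalarTower C C₁ S' := IsScalarTower.of_algebraMap_eq (R := C) (S := C₁) (A := S') fun c => (IsLocalization.Away.lift_eq f hfu c).symm
  haveI : IsScalarTower R C₁ S' := IsScalarTower.of_algebraMap_eq (R := R) (S := C₁) (A := S') fun r => by
    rw [IsScalarTower.algebraMap_apply R C S', IsScalarTower.algebraMap_apply R C C₁,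
      ← IsScalarTower.algebraMap_apply C C₁ S']
  have hle : Submonoid.powers f ≤ P.asIdeal.primeCompl := Submonoid.powers_le.2 hf
  haveI := IsLocalization.isLocalization_of_submonoid_le C₁ S' (Submonoid.powers f) P.asIdeal.primeCompl hle
  let W₁ := P.asIdeal.primeCompl.map (algebraMap C C₁)
  obtain ⟨m, hm, ψ, hψ⟩ := Groth.Agent.SpFP87.EtSpread.exists_lift_away (R := R) (S := C₁) (M := W₁) (L := S')
    ((IsScalarTower.toAlgHom R S S').comp (IsScalarTower.toAlgHom R B S))
  let C₂ := Localization.Away m
  have hmu : IsUnit (algebraMap C₁ S' m) := IsLocalization.map_units S' (⟨m, hm⟩ : W₁)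
  letI : Algebra C₂ S' := (IsLocalization.Away.lift m hmu).toAlgebra
  haveI : IsScalarTower C₁ C₂ S' := IsScalarTower.of_algebraMap_eq (R := C₁) (S := C₂) (A := S') fun c => (IsLocalization.Away.lift_eq m hmu c).symm
  haveI : IsScalarTower R C₂ S' := IsScalarTower.of_algebraMap_eq (R := R) (S := C₂) (A := S') fun r => by
    rw [IsScalarTower.algebraMap_apply R C₁ S', IsScalarTower.algebraMap_apply R C₁ C₂,
      ← IsScalarTower.algebraMap_apply C₁ C₂ S']
  letI : Algebra B C₂ := ψ.toRingHom.toAlgebra
  haveI : IsScalarTower R B C₂ := IsScalarTower.of_algebraMap_eq (R := R) (S := B) (A := C₂) fun r => (ψ.commutes r).symm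
  letI : Algebra B S' := ((algebraMap S S').comp (algebraMap B S)).toAlgebra
  haveI : IsScalarTower B S S' := .of_algebraMap_eq fun _ => rfl
  haveI : IsScalarTower B C₂ S' := IsScalarTower.of_algebraMap_eq (R := B) (S := C₂) (A := S') fun b =>
    (hψ (IsScalarTower.toAlgHom R C₂ S') (fun c => (IsScalarTower.algebraMap_apply C₁ C₂ S' c).symm) b).symm
  haveI : Algebra.FinitePresentation C₁ C₂ := IsLocalization.Away.finitePresentation m
  haveI : Algebra.FinitePresentation R C₂ := Algebra.FinitePresentation.trans R C₁ C₂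
  haveI : Algebra.FinitePresentation B C₂ :=
    Algebra.FinitePresentation.of_restrict_scalars_finitePresentation R B C₂
  have hle₂ : Submonoid.powers m ≤ W₁ := Submonoid.powers_le.2 hm
  haveI := IsLocalization.isLocalization_of_submonoid_le C₂ S' (Submonoid.powers m) W₁ hle₂
  haveI := isLocalization_atPrime_of_isLocalRing (S := S') (W₁.map (algebraMap C₁ C₂))
  let M₁ := C₁ ⊗[C] M₀
  let M₂ := C₂ ⊗[C₁] M₁
  haveI : Module.Flat R M₁ := hflatf
  haveI : Module.Flat R M₂ := Groth.Agent.Fib62.flat_tensor
  haveI : IsScalarTower C C₂ S' := IsScalarTower.of_algebraMap_eq (R := C) (S := C₂) (A := S') fun c => by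
    rw [IsScalarTower.algebraMap_apply C C₁ C₂, ← IsScalarTower.algebraMap_apply C₁ C₂ S',
      ← IsScalarTower.algebraMap_apply C C₁ S']
  let eM : S' ⊗[C₂] M₂ ≃ₗ[S'] M :=
    AlgebraTensorModule.cancelBaseChange C₁ C₂ S' S' M₁ ≪≫ₗ
      AlgebraTensorModule.cancelBaseChange C C₁ S' S' M₀ ≪≫ₗ hbc.equiv
  exact flat_of_models (R := R) (S := S) (B := B) (C := C₂) (M₀ := M₂) eM hfib'

end Groth.Agent.CAlgH2
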