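import Mathlib

namespace Groth.Agent.CAlgH2

universe u

variable {R : Type u} [CommRing R]

theorem exists_notMem_mul_pow_eq_zero {p : Ideal R} (hp : p ∈ minimalPrimes R) {r : R}
    (hr : r ∈ p) : ∃ t, t ∉ p ∧ ∃ n : ℕ, t * r ^ n = 0 := by
  haveI := hp.1.1
  by_contra! h
  have hd : Disjoint ((⊥ : Ideal R) : Set R) (p.primeCompl ⊔ Submonoid.powers r : Submonoid R) := by
    rw [Set.disjoint_left]
    intro z hz hzT
    obtain ⟨t, ht, _, ⟨n, rfl⟩, rfl⟩ := Submonoid.mem_sup.1 hzT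
    exact h t ht n hz
  obtain ⟨q, hq, -, hdq⟩ := Ideal.exists_le_prime_disjoint _ _ hd
  have hqp : q ≤ p := fun x hx => by
    by_contra hxp
    exact Set.disjoint_left.1 hdq hx (Submonoid.mem_sup_left hxp)
  exact Set.disjoint_left.1 hdq (hp.2 ⟨hq, bot_le⟩ hqp hr)
    (Submonoid.mem_sup_right (Submonoid.mem_powers r))

theorem isUnit_or_isNilpotent_localization {p : Ideal R} [p.IsPrime] (hp : p ∈ minimalPrimes R)
    (z : Localization.AtPrime p) : IsUnit z ∨ IsNilpotent z := by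
  obtain ⟨a, s, rfl⟩ := IsLocalization.exists_mk'_eq p.primeCompl z
  by_cases ha : a ∈ p
  · right
    obtain ⟨t, ht, n, hn⟩ := exists_notMem_mul_pow_eq_zero hp ha
    refine ⟨n, ?_⟩
    rw [← IsLocalization.mk'_pow, IsLocalization.mk'_eq_zero_iff]
    exact ⟨⟨t, ht⟩, hn⟩
  · left
    exact (IsLocalization.AtPrime.isUnit_mk'_iff _ p a s).2 ha

end Groth.Agent.CAlgH2
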