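import Mathlib

namespace Groth.Agent.CAlgH2

universe u

variable {R : Type u} [CommRing R] {κ : Type*} [Fintype κ] {m : ℕ}

/-- expansion of the determinant of a product along the choices of rows -/
theorem det_mul_mem_span (B : Matrix (Fin m) κ R) (A : Matrix κ (Fin m) R) :
    (B * A).det ∈ Ideal.span (Set.range fun r : Fin m → κ => (A.submatrix r id).det) := by
  classical
  have h1 : (B * A).det = Matrix.detRowAlternating.toMultilinearMap (fun i => ∑ k, B i k • A k) := by
    show _ = Matrix.det (Matrix.of fun i => ∑ k, B i k • A k)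
    congr 1
    ext i j
    simp [Matrix.mul_apply]
  rw [h1, MultilinearMap.map_sum]
  refine Ideal.sum_mem _ fun r _ => ?_
  rw [MultilinearMap.map_smul_univ, smul_eq_mul]
  exact Ideal.mul_mem_left _ _ (Ideal.subset_span ⟨r, rfl⟩)

theorem exists_mul_eq_det_smul_one [DecidableEq κ] (A : Matrix κ (Fin m) R) (r : Fin m → κ) :
    ∃ B : Matrix (Fin m) κ R, B * A = (A.submatrix r id).det • 1 := by
  refine ⟨(A.submatrix r id).adjugate * (1 : Matrix κ κ R).submatrix r id, ?_⟩
  have h : (1 : Matrix κ κ R).submatrix r id * A = A.submatrix r id := by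
    ext i j
    simp [Matrix.mul_apply, Matrix.one_apply]
  rw [Matrix.mul_assoc, h]
  exact Matrix.adjugate_mul _

end Groth.Agent.CAlgH2
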