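import Mathlib
import Groth.Agent.CAlg1.Complete
import Groth.Agent.CAlg7.FlatLimit
import Groth.Agent.Hensel20.StageNoeth

/-!
# A local ring covered by flat Noetherian local subrings with the same maximal ideal is Noetherian
-/

set_option autoImplicit false
set_option linter.style.haveILetI false
set_option linter.style.longLine false
universe u v

open IsLocalRing

namespace Groth.Agent.CAlgH2

/-- If every finite family of a local ring `L` lifts to a Noetherian local ring `G i`, flat and with
`m_i L = m_L`, then `L` is Noetherian. -/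
theorem isNoetherianRing_of_stages {ι : Type v} [Nonempty ι] (G : ι → Type u) [∀ i, CommRing (G i)] [∀ i, IsLocalRing (G i)]
    [∀ i, IsNoetherianRing (G i)] (L : Type u) [CommRing L] [IsLocalRing L] (φ : ∀ i, G i →+* L)
    (hflat : ∀ i, (φ i).Flat) (hmax : ∀ i, (maximalIdeal (G i)).map (φ i) = maximalIdeal L)
    (hcover : ∀ s : Finset L, ∃ i, ∀ x ∈ s, x ∈ Set.range (φ i)) : IsNoetherianRing L := by
  classical
  obtain ⟨i₀⟩ := ‹Nonempty ι›
  have hfg : (maximalIdeal L).FG := by
    rw [← hmax i₀]
    exact (maximalIdeal (G i₀)).fg_of_isNoetherianRing.map _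
  let C := AdicCompletion (maximalIdeal L) L
  haveI : IsNoetherianRing (L ⧸ maximalIdeal L) := by
    let _ := Ideal.Quotient.field (maximalIdeal L)
    infer_instance
  haveI hC : IsNoetherianRing C := CAlg1.isNoetherianRing_adicCompletion _ hfg
  haveI hCl : IsLocalRing C := AdicCompletion.isLocalRing_of_fg hfg
  haveI hCh : IsLocalHom (algebraMap L C) := AdicCompletion.algebraMap_isLocalHom_of_fg hfg
  have hker : ∀ (n : ℕ) (c : C),
      c ∈ (maximalIdeal L ^ n).map (algebraMap L C) ↔ AdicCompletion.eval (maximalIdeal L) L n c = 0 := fun n c => by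
    rw [← Submodule.restrictScalars_mem L, ← Ideal.smul_top_eq_map,
      AdicCompletion.pow_smul_top_eq_ker_eval hfg, LinearMap.mem_ker]
  have hstage : ∀ (i : ι) (a : Ideal (G i)) (x : G i),
      algebraMap L C (φ i x) ∈ (a.map (φ i)).map (algebraMap L C) → x ∈ a := by
    intro i a x hx
    letI : Algebra (G i) L := (φ i).toAlgebra
    haveI : IsScalarTower (G i) L C := IsScalarTower.of_algebraMap_eq fun _ => rfl
    haveI : Module.Flat (G i) L := hflat i
    haveI : IsLocalHom (algebraMap (G i) L) :=
      ((local_hom_TFAE (algebraMap (G i) L)).out 0 2).mpr (hmax i).le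
    haveI hloc : IsLocalHom (algebraMap (G i) C) := by
      rw [IsScalarTower.algebraMap_eq (G i) L C]; exact RingHom.isLocalHom_comp _ _
    have hpow : ∀ n : ℕ, (maximalIdeal (G i) ^ n).map (algebraMap (G i) C) =
        (maximalIdeal L ^ n).map (algebraMap L C) := fun n => by
      rw [IsScalarTower.algebraMap_eq (G i) L C, ← Ideal.map_map, Ideal.map_pow,
        show (maximalIdeal (G i)).map (algebraMap (G i) L) = maximalIdeal L from hmax i]
    haveI : Module.Flat (G i) C := by
      refine CAlg7.flat_of_forall_flat_mod_pow (S := C) (maximalIdeal (G i)) ?_ fun n _ => ?_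
      · rw [IsLocalRing.jacobson_eq_maximalIdeal ⊥ bot_ne_top]
        exact Ideal.map_le_iff_le_comap.mpr
          (((local_hom_TFAE (algebraMap (G i) C)).out 0 3).mp hloc)
      · refine Hensel20.flat_quotient_of_bijective_mod (G i) L C _ (fun c => ?_) fun h hh => ?_
        · obtain ⟨h, hh⟩ := Submodule.Quotient.mk_surjective _ (AdicCompletion.eval (maximalIdeal L) L n c)
          refine ⟨h, ?_⟩
          rw [hpow, hker, map_sub, sub_eq_zero, ← hh]
          rfl
        · rw [hpow, hker] at hh
          have h2 : h ∈ (maximalIdeal L ^ n • ⊤ : Submodule L L) := (Submodule.Quotient.mk_eq_zero _).mp hh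
          rw [smul_eq_mul, Ideal.mul_top] at h2
          rwa [Ideal.map_pow, show (maximalIdeal (G i)).map (algebraMap (G i) L) = maximalIdeal L from hmax i]
    haveI : Module.FaithfullyFlat (G i) C := Module.FaithfullyFlat.of_flat_of_isLocalHom
    rw [Ideal.map_map] at hx
    rw [← Ideal.comap_map_eq_self_of_faithfullyFlat (B := C) a]
    exact hx
  have hinj : ∀ (a : Ideal L) (x : L), a.FG → algebraMap L C x ∈ a.map (algebraMap L C) → x ∈ a := by
    intro a x ha hx
    obtain ⟨s, rfl⟩ := ha
    obtain ⟨i, hi⟩ := hcover (insert x s)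
    obtain ⟨y, rfl⟩ := hi x (Finset.mem_insert_self _ _)
    let a₀ : Ideal (G i) := (Ideal.span (s : Set L)).comap (φ i)
    have hle : Ideal.span (s : Set L) ≤ a₀.map (φ i) := by
      rw [Ideal.span_le]
      intro g hg
      obtain ⟨z, rfl⟩ := hi g (Finset.mem_insert_of_mem hg)
      exact Ideal.mem_map_of_mem _ (show φ i z ∈ Ideal.span (s : Set L) from Ideal.subset_span hg)
    exact hstage i a₀ y (Ideal.map_mono hle hx)
  refine (isNoetherianRing_iff_ideal_fg _).mpr fun a => ?_
  obtain ⟨s, hs, hspan⟩ := Submodule.fg_span_iff_fg_span_finset_subset (R := C)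
    ((algebraMap L C) '' a) |>.mp (IsNoetherian.noetherian (R := C) (M := C) _)
  obtain ⟨t, hta, rfl⟩ := Finset.subset_set_image_iff.mp hs
  refine ⟨t, le_antisymm (Ideal.span_le.mpr hta) fun x hx => ?_⟩
  refine hinj _ x ⟨t, rfl⟩ ?_
  rw [Ideal.map_span, ← Finset.coe_image]
  exact hspan.le (Submodule.subset_span ⟨x, hx, rfl⟩)

end Groth.Agent.CAlgH2
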