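import Mathlib

namespace Groth.Agent.CAlgH2

universe u

variable {R : Type u} [CommRing R] [IsNoetherianRing R]

/-- If every prime strictly above `p` contains `f ∉ p`, each such prime is minimal over `p + (f)`,
so there are finitely many of them. -/
theorem finite_of_forall_gt_mem (p : Ideal R) [p.IsPrime] (f : R) (hfp : f ∉ p)
    (h : ∀ q : Ideal R, q.IsPrime → p < q → f ∈ q) :
    ∀ q : Ideal R, q.IsPrime → p < q → q ∈ (p ⊔ Ideal.span {f}).minimalPrimes := by
  classical
  let J := p ⊔ Ideal.span {f}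
  have hfin : J.minimalPrimes.Finite := Ideal.finite_minimalPrimes_of_isNoetherianRing R J
  have step : ∀ q : Ideal R, q.IsPrime → p < q → (∀ q₁ : Ideal R, q₁.IsPrime → p < q₁ → q₁ < q → False)
      → q ∈ J.minimalPrimes := by
    intro q hq hpq hmin
    refine ⟨⟨hq, sup_le hpq.le ((Ideal.span_singleton_le_iff_mem _).2 (h q hq hpq))⟩, fun q₁ hq₁ hle => ?_⟩
    by_contra hne
    refine hmin q₁ hq₁.1 (lt_of_le_of_ne (le_sup_left.trans hq₁.2) ?_) (lt_of_le_not_ge hle hne)
    rintro rfl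
    exact hfp (hq₁.2 (le_sup_right (a := p) (Ideal.mem_span_singleton_self f)))
  intro q hq hpq
  have hcover : (q : Set R) ⊆ ⋃ P ∈ (hfin.toFinset : Set (Ideal R)), P := by
    intro g hg
    by_cases hgp : g ∈ p
    · obtain ⟨P, hP, -⟩ := Ideal.exists_minimalPrimes_le (I := J) (J := q)
        (sup_le hpq.le ((Ideal.span_singleton_le_iff_mem _).2 (h q hq hpq)))
      exact Set.mem_biUnion (hfin.mem_toFinset.2 hP) (le_sup_left.trans hP.1.2 hgp)
    obtain ⟨P, hP, hPq⟩ := Ideal.exists_minimalPrimes_le (I := p ⊔ Ideal.span {g}) (J := q)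
      (sup_le hpq.le ((Ideal.span_singleton_le_iff_mem _).2 hg))
    have hgP : g ∈ P := hP.1.2 (le_sup_right (a := p) (Ideal.mem_span_singleton_self g))
    haveI := hP.1.1
    have hpP : p ≤ P := le_sup_left.trans hP.1.2
    have hpP' : p < P := lt_of_le_not_ge hpP fun hle => hgp (hle hgP)
    refine Set.mem_biUnion (hfin.mem_toFinset.2 (step P hP.1.1 hpP' fun q₁ hq₁ h1 h2 => ?_)) hgP
    let φ := Ideal.Quotient.mk p
    have hker : RingHom.ker φ = p := Ideal.mk_ker
    have hs : Function.Surjective φ := Ideal.Quotient.mk_surjective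
    have hcm : ∀ Q : Ideal R, p ≤ Q → (Q.map φ).comap φ = Q := fun Q hQ => by
      rw [Ideal.comap_map_of_surjective' φ hs, hker, sup_eq_left.2 hQ]
    have hPp : (P.map φ).IsPrime := Ideal.map_isPrime_of_surjective hs (hker.trans_le hpP)
    have hq₁p : (q₁.map φ).IsPrime := Ideal.map_isPrime_of_surjective hs (hker.trans_le h1.le)
    have hPmin : P.map φ ∈ (Ideal.span {φ g}).minimalPrimes := by
      refine ⟨⟨hPp, (Ideal.span_singleton_le_iff_mem _).2 (Ideal.mem_map_of_mem φ hgP)⟩, fun Q hQ hle => ?_⟩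
      have hpQ : p ≤ Q.comap φ := hker.symm.le.trans (Ideal.comap_mono bot_le)
      have : P ≤ Q.comap φ := hP.2 ⟨hQ.1.comap φ, sup_le hpQ
        ((Ideal.span_singleton_le_iff_mem _).2 (hQ.2 (Ideal.mem_span_singleton_self _)))⟩
        ((Ideal.comap_mono hle).trans (hcm P hpP).le)
      exact Ideal.map_le_iff_le_comap.2 this
    have hht := Ideal.height_le_one_of_isPrincipal_of_mem_minimalPrimes _ _ hPmin
    have l1 : (⊥ : Ideal (R ⧸ p)) < q₁.map φ := bot_lt_iff_ne_bot.2 fun hb => by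
      have := hcm q₁ h1.le
      rw [hb, ← RingHom.ker_eq_comap_bot, hker] at this
      exact h1.ne this
    have l2 : q₁.map φ < P.map φ := lt_of_le_of_ne (Ideal.map_mono h2.le) fun hb =>
      h2.ne (by rw [← hcm q₁ h1.le, hb, hcm P hpP])
    haveI := hq₁p
    haveI := hPp
    haveI : (P.map φ).FiniteHeight := inferInstance
    have a1 := Ideal.height_strict_mono_of_isPrime l2
    have a2 := Ideal.height_strict_mono_of_isPrime l1
    have : (q₁.map φ).height = 0 := ENat.lt_one_iff_eq_zero.1 (a1.trans_le hht)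
    exact absurd (this ▸ a2) not_lt_zero
  obtain ⟨P, hP, hqP⟩ := (Ideal.subset_union_prime ⊥ ⊥ fun P hP _ _ =>
    (hfin.mem_toFinset.1 hP).1.1).1 hcover
  have hP' := hfin.mem_toFinset.1 hP
  have hJq : J ≤ q := sup_le hpq.le ((Ideal.span_singleton_le_iff_mem _).2 (h q hq hpq))
  rwa [le_antisymm hqP (hP'.2 ⟨hq, hJq⟩ hqP)]

end Groth.Agent.CAlgH2
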