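import Mathlib

/-!
# `SL_n` lies in the commutator subgroup of `GL_n` over a local ring with `λ, λ - 1` units
-/

set_option autoImplicit false
set_option linter.style.haveILetI false
set_option linter.style.longLine false
universe u

open Matrix
open scoped commutatorElement

namespace Groth.Agent.CAlgH2.SLComm

variable {L : Type u} [CommRing L] {n : ℕ}

/-- A transvection as an element of `GL_n`. -/
def tv (t : TransvectionStruct (Fin n) L) : GL (Fin n) L :=
  ⟨t.toMatrix, t.inv.toMatrix, t.mul_inv, t.inv_mul⟩

theorem tv_coe (t : TransvectionStruct (Fin n) L) : (tv t : Matrix (Fin n) (Fin n) L) = t.toMatrix := rfl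

/-- Diagonal matrices in `GL_n`. -/
def dg : (Fin n → Lˣ) →* GL (Fin n) L :=
  (Units.map (Matrix.diagonalRingHom (Fin n) L).toMonoidHom).comp MulEquiv.piUnits.symm.toMonoidHom

theorem dg_coe (d : Fin n → Lˣ) : (dg d : Matrix (Fin n) (Fin n) L) = diagonal fun i => (d i : L) := rfl

theorem tv_mem (lam : Lˣ) (mu : Lˣ) (hmu : (mu : L) = lam - 1) (t : TransvectionStruct (Fin n) L) :
    tv t ∈ commutator (GL (Fin n) L) := by
  obtain ⟨i, j, hij, c⟩ := t
  let y : L := c * ↑mu⁻¹
  let d : Fin n → Lˣ := Function.update 1 i lam
  have key : tv ⟨i, j, hij, c⟩ * tv ⟨i, j, hij, y⟩ * dg d = dg d * tv ⟨i, j, hij, y⟩ := by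
    refine Units.ext ?_
    simp only [Units.val_mul, tv_coe, dg_coe, TransvectionStruct.toMatrix_mk,
      transvection_mul_transvection_same _ _ hij]
    have hy : c + y = lam * y := by
      have : c = y * mu := by simp [y, mul_assoc]
      rw [this, hmu]; ring
    rw [hy]
    ext a b
    simp only [mul_diagonal, diagonal_mul, transvection, Matrix.add_apply, Matrix.one_apply, Matrix.single_apply]
    by_cases h1 : a = i ∧ b = j
    · obtain ⟨rfl, rfl⟩ := h1
      simp [d, hij, Ne.symm hij]
    · have h2 : ¬ (i = a ∧ j = b) := fun h => h1 ⟨h.1.symm, h.2.symm⟩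
      rw [if_neg h2, if_neg h2]
      by_cases hab : a = b
      · subst hab; simp [mul_comm]
      · simp [hab]
  have : tv ⟨i, j, hij, c⟩ = ⁅dg d, tv ⟨i, j, hij, y⟩⁆ := by
    rw [commutatorElement_def, ← key]
    simp [mul_assoc]
  rw [this, commutator_eq_closure]
  exact Subgroup.subset_closure (commutator_mem_commutatorSet _ _)

theorem dg_mem (d : Fin n → Lˣ) (h : ∏ i, d i = 1) : dg d ∈ commutator (GL (Fin n) L) := by
  rcases Nat.eq_zero_or_pos n with hn | hn
  · subst hn
    rw [Subsingleton.elim d 1, map_one]
    exact one_mem _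
  let i₀ : Fin n := ⟨0, hn⟩
  let q : GL (Fin n) L →* Abelianization (GL (Fin n) L) := Abelianization.of
  have hsw : ∀ i (a : Lˣ), q (dg (Pi.mulSingle i a)) = q (dg (Pi.mulSingle i₀ a)) := by
    intro i a
    let P : GL (Fin n) L := ⟨Matrix.swap L i i₀, Matrix.swap L i i₀, swap_mul_self i i₀, swap_mul_self i i₀⟩
    have : P * dg (Pi.mulSingle i a) = dg (Pi.mulSingle i₀ a) * P := by
      refine Units.ext ?_
      show Matrix.swap L i i₀ * diagonal (fun r => ((Pi.mulSingle i a : Fin n → Lˣ) r : L)) = diagonal (fun r => ((Pi.mulSingle i₀ a : Fin n → Lˣ) r : L)) * Matrix.swap L i i₀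
      rw [Matrix.swap]
      ext r s
      rw [PEquiv.toMatrix_toPEquiv_mul, PEquiv.mul_toMatrix_toPEquiv]
      simp only [Matrix.submatrix_apply, id_eq, diagonal_apply, Equiv.symm_swap]
      by_cases hrs : Equiv.swap i i₀ r = s
      · subst hrs
        rw [if_pos rfl, Equiv.swap_apply_self, if_pos rfl]
        by_cases hr : r = i₀
        · subst hr; simp
        · have : Equiv.swap i i₀ r ≠ i := fun h => hr (by
            rw [← Equiv.swap_apply_self i i₀ r, h, Equiv.swap_apply_left])
          rw [Pi.mulSingle_eq_of_ne this, Pi.mulSingle_eq_of_ne hr]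
      · have : r ≠ Equiv.swap i i₀ s := fun h => hrs (by rw [h, Equiv.swap_apply_self])
        rw [if_neg hrs, if_neg this]
    have h2 := congrArg q this
    rw [map_mul, map_mul, mul_comm] at h2
    exact mul_right_cancel h2
  let ψ : (Fin n → Lˣ) →* Abelianization (GL (Fin n) L) := q.comp dg
  have hsw' : ∀ i a, ψ (Pi.mulSingle i a) = ψ (Pi.mulSingle i₀ a) := hsw
  have : q (dg d) = 1 := by
    show ψ d = 1
    rw [← Finset.univ_prod_mulSingle d, map_prod, Finset.prod_congr rfl fun i _ => hsw' i (d i)]
    have h2 := map_prod (ψ.comp (MonoidHom.mulSingle (fun _ : Fin n => Lˣ) i₀)) d Finset.univ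
    rw [h, map_one] at h2
    exact h2.symm
  rwa [← MonoidHom.mem_ker, Abelianization.ker_of] at this

section Local

variable [IsLocalRing L]

open IsLocalRing

theorem near_one_mem (lam mu : Lˣ) (hmu : (mu : L) = lam - 1) :
    ∀ (S : Finset (Fin n)) (g : GL (Fin n) L), Matrix.GeneralLinearGroup.map (residue L) g = 1 →
      (∀ a b, a ≠ b → (a ∉ S ∨ b ∉ S) → (g : Matrix (Fin n) (Fin n) L) a b = 0) →
      (g : Matrix (Fin n) (Fin n) L).det = 1 → g ∈ commutator (GL (Fin n) L) := by
  classical
  intro S
  induction S using Finset.induction with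
  | empty =>
    intro g hg h0 hdet
    have hd : (g : Matrix (Fin n) (Fin n) L) = diagonal fun i => (g : Matrix (Fin n) (Fin n) L) i i := by
      ext a b
      by_cases hab : a = b
      · subst hab; simp
      · rw [diagonal_apply_ne _ hab]; exact h0 a b hab (Or.inl (Finset.notMem_empty a))
    have hu : ∀ i, IsUnit ((g : Matrix (Fin n) (Fin n) L) i i) := fun i => by
      rw [← residue_ne_zero_iff_isUnit]
      have := congrArg (fun m : GL (Fin n) (ResidueField L) => (m : Matrix (Fin n) (Fin n) (ResidueField L)) i i) hg
      simp only [GeneralLinearGroup.map_apply, Units.val_one, one_apply_eq] at this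
      rw [this]; exact one_ne_zero
    have : g = dg (fun i => (hu i).unit) := Units.ext hd
    rw [this]
    refine dg_mem _ (Units.ext ?_)
    rw [hd, det_diagonal] at hdet
    simpa using hdet
  | insert k S hk ih =>
    intro g hg h0 hdet
    have hdiag : ∀ a b, residue L ((g : Matrix (Fin n) (Fin n) L) a b) = (1 : Matrix (Fin n) (Fin n) (ResidueField L)) a b := fun a b => by
      have := congrArg (fun m : GL (Fin n) (ResidueField L) => (m : Matrix (Fin n) (Fin n) (ResidueField L)) a b) hg
      simpa only [GeneralLinearGroup.map_apply, Units.val_one] using this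
    obtain ⟨u, hu⟩ : IsUnit ((g : Matrix (Fin n) (Fin n) L) k k) := by
      rw [← residue_ne_zero_iff_isUnit, hdiag, one_apply_eq]; exact one_ne_zero
    -- clear column `k` by row operations and row `k` by column operations
    let P : Matrix (Fin n) (Fin n) L := fun a b => (1 : Matrix (Fin n) (Fin n) L) a b +
      (if b = k ∧ a ≠ k then -((g : Matrix (Fin n) (Fin n) L) a k * ↑u⁻¹) else 0)
    let Q : Matrix (Fin n) (Fin n) L := fun a b => (1 : Matrix (Fin n) (Fin n) L) a b +
      (if a = k ∧ b ≠ k then -(↑u⁻¹ * (g : Matrix (Fin n) (Fin n) L) k b) else 0)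
    obtain ⟨pl, hpl, hplr, hpld⟩ : ∃ p : GL (Fin n) L, p ∈ commutator (GL (Fin n) L) ∧
        (p : Matrix (Fin n) (Fin n) L) = P ∧ Matrix.GeneralLinearGroup.map (residue L) p = 1 := by
      suffices ∀ T : Finset (Fin n), ∃ p : GL (Fin n) L, p ∈ commutator (GL (Fin n) L) ∧
          ((p : Matrix (Fin n) (Fin n) L) = fun a b => (1 : Matrix (Fin n) (Fin n) L) a b +
            (if b = k ∧ a ≠ k ∧ a ∈ T then -((g : Matrix (Fin n) (Fin n) L) a k * ↑u⁻¹) else 0)) ∧
          Matrix.GeneralLinearGroup.map (residue L) p = 1 by
        obtain ⟨p, h1, h2, h3⟩ := this Finset.univ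
        exact ⟨p, h1, by rw [h2]; simp [P], h3⟩
      intro T
      induction T using Finset.induction with
      | empty => exact ⟨1, one_mem _, by ext a b; simp, map_one _⟩
      | insert a T haT ihT =>
        obtain ⟨p, h1, h2, h3⟩ := ihT
        by_cases hak : a = k
        · refine ⟨p, h1, h2.trans ?_, h3⟩
          ext r s
          by_cases hr : r = a
          · subst hr; simp [hak]
          · simp [hr]
        refine ⟨p * tv ⟨a, k, hak, -((g : Matrix (Fin n) (Fin n) L) a k * ↑u⁻¹)⟩, mul_mem h1 (tv_mem lam mu hmu _), ?_, ?_⟩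
        · rw [Units.val_mul, tv_coe, TransvectionStruct.toMatrix_mk]
          ext r s
          by_cases hs : s = k
          · subst hs
            rw [mul_transvection_apply_same]
            rw [h2]
            by_cases hr : r = a
            · subst hr; simp [hak, haT]
            · have h4 : (1 : Matrix (Fin n) (Fin n) L) r a = 0 := one_apply_ne hr
              simp [hr, hak, Ne.symm hak]
          · rw [mul_transvection_apply_of_ne _ _ _ _ hs, h2]
            simp [hs]
        · rw [map_mul, h3, one_mul]
          refine Units.ext ?_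
          ext r s
          rw [GeneralLinearGroup.map_apply, tv_coe, TransvectionStruct.toMatrix_mk, Units.val_one]
          simp only [transvection, Matrix.add_apply, map_add, Matrix.single_apply]
          have h4 : residue L (-((g : Matrix (Fin n) (Fin n) L) a k * ↑u⁻¹)) = 0 := by
            rw [map_neg, map_mul, hdiag, one_apply_ne hak, zero_mul, neg_zero]
          split_ifs <;> simp [h4, Matrix.one_apply, apply_ite (residue L)]
    obtain ⟨qr, hqr, hqrq, hqrd⟩ : ∃ p : GL (Fin n) L, p ∈ commutator (GL (Fin n) L) ∧
        (p : Matrix (Fin n) (Fin n) L) = Q ∧ Matrix.GeneralLinearGroup.map (residue L) p = 1 := by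
      suffices ∀ T : Finset (Fin n), ∃ p : GL (Fin n) L, p ∈ commutator (GL (Fin n) L) ∧
          ((p : Matrix (Fin n) (Fin n) L) = fun a b => (1 : Matrix (Fin n) (Fin n) L) a b +
            (if a = k ∧ b ≠ k ∧ b ∈ T then -(↑u⁻¹ * (g : Matrix (Fin n) (Fin n) L) k b) else 0)) ∧
          Matrix.GeneralLinearGroup.map (residue L) p = 1 by
        obtain ⟨p, h1, h2, h3⟩ := this Finset.univ
        exact ⟨p, h1, by rw [h2]; simp [Q], h3⟩
      intro T
      induction T using Finset.induction with
      | empty => exact ⟨1, one_mem _, by ext a b; simp, map_one _⟩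
      | insert a T haT ihT =>
        obtain ⟨p, h1, h2, h3⟩ := ihT
        by_cases hak : a = k
        · refine ⟨p, h1, h2.trans ?_, h3⟩
          ext r s
          by_cases hs : s = a
          · subst hs; simp [hak]
          · simp [hs]
        refine ⟨tv ⟨k, a, Ne.symm hak, -(↑u⁻¹ * (g : Matrix (Fin n) (Fin n) L) k a)⟩ * p, mul_mem (tv_mem lam mu hmu _) h1, ?_, ?_⟩
        · rw [Units.val_mul, tv_coe, TransvectionStruct.toMatrix_mk]
          ext r s
          by_cases hr : r = k
          · subst hr
            rw [transvection_mul_apply_same]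
            rw [h2]
            by_cases hs : s = a
            · subst hs; simp [hak, Ne.symm hak, haT]
            · simp [hs, hak, Ne.symm hs]
          · rw [transvection_mul_apply_of_ne _ _ _ _ hr, h2]
            simp [hr]
        · rw [map_mul, h3, mul_one]
          refine Units.ext ?_
          ext r s
          rw [GeneralLinearGroup.map_apply, tv_coe, TransvectionStruct.toMatrix_mk, Units.val_one]
          simp only [transvection, Matrix.add_apply, map_add, Matrix.single_apply]
          have h4 : residue L (-(↑u⁻¹ * (g : Matrix (Fin n) (Fin n) L) k a)) = 0 := by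
            rw [map_neg, map_mul, hdiag, one_apply_ne (Ne.symm hak), mul_zero, neg_zero]
          split_ifs <;> simp [h4, Matrix.one_apply, apply_ite (residue L)]
    have hg' : pl * g * qr ∈ commutator (GL (Fin n) L) := by
      have hform : ∀ a b, ((pl * g * qr : GL (Fin n) L) : Matrix (Fin n) (Fin n) L) a b =
          if b = k then (if a = k then (u : L) else 0)
          else if a = k then 0
          else (g : Matrix (Fin n) (Fin n) L) a b - (g : Matrix (Fin n) (Fin n) L) a k * ↑u⁻¹ * (g : Matrix (Fin n) (Fin n) L) k b := by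
        intro a b
        have h1 : ∀ a c, (P * (g : Matrix (Fin n) (Fin n) L)) a c = (g : Matrix (Fin n) (Fin n) L) a c +
            (if a ≠ k then -((g : Matrix (Fin n) (Fin n) L) a k * ↑u⁻¹) * (g : Matrix (Fin n) (Fin n) L) k c else 0) := by
          intro a c
          simp only [Matrix.mul_apply, P, add_mul, Finset.sum_add_distrib, Matrix.one_apply, ite_mul, one_mul, zero_mul,
            Finset.sum_ite_eq, Finset.mem_univ, if_true]
          congr 1
          by_cases hak : a = k
          · simp [hak]
          · simp [hak]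
        rw [Units.val_mul, Units.val_mul, hplr, hqrq, Matrix.mul_apply]
        simp only [Q, mul_add, Finset.sum_add_distrib, Matrix.one_apply, mul_ite, mul_one, mul_zero, h1,
          Finset.sum_ite_eq', Finset.mem_univ, if_true]
        by_cases hbk : b = k
        · subst hbk
          by_cases hak : a = b
          · subst hak; simp [hu]
          · simp [hak, ← hu, mul_assoc]
        · by_cases hak : a = k
          · subst hak; simp [hbk, ← hu, ← mul_assoc]
          · simp only [hbk, hak, ne_eq, not_false_eq_true, and_true, if_false, Finset.sum_ite_eq', Finset.mem_univ, if_true, ← hu]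
            rw [show (g : Matrix (Fin n) (Fin n) L) a k + -((g : Matrix (Fin n) (Fin n) L) a k * ↑u⁻¹) * (u : L) = 0 by
              rw [neg_mul, mul_assoc, Units.inv_mul, mul_one, add_neg_cancel]]
            ring
      refine ih _ ?_ (fun a b hab hS => ?_) ?_
      · rw [map_mul, map_mul, hpld, hg, hqrd, one_mul, one_mul]
      · rw [hform]
        split_ifs with h1 h2 h2
        · exact absurd (h2.trans h1.symm) hab
        · rfl
        · rfl
        · have hS' : a ∉ insert k S ∨ b ∉ insert k S := hS.imp (fun h => by simp [h2, h]) (fun h => by simp [h1, h])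
          rw [h0 a b hab hS']
          rcases hS' with h | h
          · rw [h0 a k h2 (Or.inl h)]; ring
          · rw [h0 k b (Ne.symm h1) (Or.inr h)]; ring
      · have hd1 : ∀ p ∈ commutator (GL (Fin n) L), (p : Matrix (Fin n) (Fin n) L).det = 1 := fun p hp => by
          have h5 := Abelianization.commutator_subset_ker (Matrix.GeneralLinearGroup.det : GL (Fin n) L →* Lˣ) hp
          rw [MonoidHom.mem_ker] at h5
          simpa using congrArg Units.val h5
        rw [Units.val_mul, Units.val_mul, det_mul, det_mul, hd1 _ hpl, hd1 _ hqr, hdet, one_mul, one_mul]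
    rwa [Subgroup.mul_mem_cancel_right _ hqr, Subgroup.mul_mem_cancel_left _ hpl] at hg'

theorem mem_commutator_of_det_eq_one (lam mu : Lˣ) (hmu : (mu : L) = lam - 1) (g : GL (Fin n) L)
    (hg : (g : Matrix (Fin n) (Fin n) L).det = 1) : g ∈ commutator (GL (Fin n) L) := by
  classical
  obtain ⟨T, T', D, hTD⟩ := Pivot.exists_list_transvec_mul_diagonal_mul_list_transvec
    ((Matrix.GeneralLinearGroup.map (residue L) g : GL (Fin n) (ResidueField L)) : Matrix (Fin n) (Fin n) (ResidueField L))
  choose lift hlift using fun c : ResidueField L => residue_surjective (R := L) c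
  let l : TransvectionStruct (Fin n) (ResidueField L) → GL (Fin n) L := fun t => tv ⟨t.i, t.j, t.hij, lift t.c⟩
  have hl : ∀ t, Matrix.GeneralLinearGroup.map (residue L) (l t) = tv t := by
    intro t
    refine Units.ext ?_
    ext r s
    rw [GeneralLinearGroup.map_apply, tv_coe, tv_coe]
    obtain ⟨i, j, hij, c⟩ := t
    simp only [l, TransvectionStruct.toMatrix_mk, transvection, Matrix.add_apply, map_add, Matrix.single_apply,
      Matrix.one_apply, apply_ite (residue L), map_one, map_zero, hlift]
  have hdetD : ∏ i, D i = 1 := by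
    have h1 := congrArg Matrix.det hTD
    rw [det_mul, det_mul, TransvectionStruct.det_toMatrix_prod, TransvectionStruct.det_toMatrix_prod, one_mul, mul_one, det_diagonal] at h1
    rw [← h1]
    show ((residue L).mapMatrix (g : Matrix (Fin n) (Fin n) L)).det = 1
    rw [← RingHom.map_det, hg, map_one]
  have hDu : ∀ i, IsUnit (lift (D i)) := fun i => by
    rw [← residue_ne_zero_iff_isUnit, hlift]
    intro h0
    rw [Finset.prod_eq_zero (Finset.mem_univ i) h0] at hdetD
    exact zero_ne_one hdetD
  rcases Nat.eq_zero_or_pos n with hn | hn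
  · subst hn
    rw [Subsingleton.elim g 1]
    exact one_mem _
  let i₀ : Fin n := ⟨0, hn⟩
  let d₀ : Fin n → Lˣ := fun i => (hDu i).unit
  let d : Fin n → Lˣ := d₀ * Pi.mulSingle i₀ (∏ i, d₀ i)⁻¹
  have hd : ∏ i, d i = 1 := by
    simp only [d, Pi.mul_apply, Finset.prod_mul_distrib, Finset.prod_pi_mulSingle', Finset.mem_univ, if_true, mul_inv_cancel]
  have hres : Units.map (residue L).toMonoidHom (∏ i, d₀ i) = 1 := by
    refine Units.ext ?_
    simp [d₀, hlift, hdetD]
  have hdr : Matrix.GeneralLinearGroup.map (residue L) (dg d) = dg (n := n) (fun i => Units.map (residue L).toMonoidHom (d₀ i)) := by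
    refine Units.ext ?_
    ext r s
    rw [GeneralLinearGroup.map_apply, dg_coe, dg_coe]
    by_cases hrs : r = s
    · subst hrs
      rw [diagonal_apply_eq, diagonal_apply_eq]
      show residue L ((d₀ r * Pi.mulSingle (M := fun _ => Lˣ) i₀ (∏ i, d₀ i)⁻¹ r : Lˣ) : L) = _
      by_cases hr : r = i₀
      · subst hr
        rw [Pi.mulSingle_eq_same, Units.val_mul, map_mul]
        have : residue L ((∏ i, d₀ i)⁻¹ : Lˣ) = 1 := by
          have := congrArg Units.val (congrArg (·⁻¹) hres)
          simpa [← map_inv] using this
        rw [this, mul_one]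
        rfl
      · rw [Pi.mulSingle_eq_of_ne hr, mul_one]
        rfl
    · rw [diagonal_apply_ne _ hrs, diagonal_apply_ne _ hrs, map_zero]
  let e : GL (Fin n) L := (T.map l).prod * dg d * (T'.map l).prod
  have hmemT : ∀ T : List (TransvectionStruct (Fin n) (ResidueField L)), (T.map l).prod ∈ commutator (GL (Fin n) L) := fun T =>
    list_prod_mem (fun x hx => by
      obtain ⟨t, -, rfl⟩ := List.mem_map.1 hx
      exact tv_mem lam mu hmu _)
  have he : e ∈ commutator (GL (Fin n) L) := mul_mem (mul_mem (hmemT T) (dg_mem d hd)) (hmemT T')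
  have hprod : ∀ T : List (TransvectionStruct (Fin n) (ResidueField L)),
      ((Matrix.GeneralLinearGroup.map (residue L) (T.map l).prod : GL (Fin n) (ResidueField L)) : Matrix _ _ _) =
        (T.map TransvectionStruct.toMatrix).prod := by
    intro T
    induction T with
    | nil => simp
    | cons a T ih => rw [List.map_cons, List.prod_cons, map_mul, Units.val_mul, ih, hl, tv_coe, List.map_cons, List.prod_cons]
  have heq : Matrix.GeneralLinearGroup.map (residue L) e = Matrix.GeneralLinearGroup.map (residue L) g := by
    refine Units.ext ?_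
    rw [map_mul, map_mul, Units.val_mul, Units.val_mul, hprod, hprod, hdr, hTD, dg_coe]
    congr 3
    funext i
    simp [d₀, hlift]
  have hd1 : (e : Matrix (Fin n) (Fin n) L).det = 1 := by
    have h5 := Abelianization.commutator_subset_ker (Matrix.GeneralLinearGroup.det : GL (Fin n) L →* Lˣ) he
    rw [MonoidHom.mem_ker] at h5
    simpa using congrArg Units.val h5
  have ht : e⁻¹ * g ∈ commutator (GL (Fin n) L) := by
    refine near_one_mem lam mu hmu Finset.univ _ (by rw [map_mul, map_inv, heq, inv_mul_cancel]) (fun a b _ h => ?_) ?_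
    · simp at h
    · have h6 : ((e⁻¹ * g : GL (Fin n) L) : Matrix (Fin n) (Fin n) L).det * (e : Matrix (Fin n) (Fin n) L).det = 1 := by
        rw [Units.val_mul, det_mul, mul_right_comm, ← det_mul, Units.inv_mul, det_one, one_mul, hg]
      rwa [hd1, mul_one] at h6
  rwa [Subgroup.mul_mem_cancel_left _ (inv_mem he)] at ht

end Local

end Groth.Agent.CAlgH2.SLComm
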