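import Mathlib

/-!
# Spreading out isomorphisms of localizations of finitely presented algebras
-/

set_option autoImplicit false
set_option linter.style.haveILetI false
set_option linter.style.longLine false
universe u v w

namespace Groth.Agent.CAlgH2.SpreadOut

variable {R : Type u} [CommRing R] {S : Type v} [CommRing S] [Algebra R S] {T : Type w} [CommRing T] [Algebra R T]

/-- An algebra hom out of a localization away from an element. -/
noncomputable def liftA {g : S} (φ : S →ₐ[R] T) (h : IsUnit (φ g)) : Localization.Away g →ₐ[R] T :=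
  IsLocalization.liftAlgHom (M := Submonoid.powers g) (f := φ) (fun y => by
    obtain ⟨_, n, rfl⟩ := y
    simpa using h.pow n)

theorem liftA_algebraMap {g : S} (φ : S →ₐ[R] T) (h : IsUnit (φ g)) (s : S) :
    liftA φ h (algebraMap S (Localization.Away g) s) = φ s :=
  IsLocalization.lift_eq _ s

theorem hom_ext {g : S} {φ ψ : Localization.Away g →ₐ[R] T}
    (h : ∀ s, φ (algebraMap S (Localization.Away g) s) = ψ (algebraMap S (Localization.Away g) s)) : φ = ψ :=
  IsLocalization.algHom_ext (Submonoid.powers g) (AlgHom.ext h)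

/-- The canonical map from a localization to a further localization. -/
noncomputable def incl {g g' : S} (h : g ∣ g') : Localization.Away g →ₐ[R] Localization.Away g' :=
  liftA (IsScalarTower.toAlgHom R S _) (isUnit_of_dvd_unit (map_dvd (algebraMap S (Localization.Away g')) h)
    (IsLocalization.Away.algebraMap_isUnit g'))

theorem incl_algebraMap {g g' : S} (h : g ∣ g') (s : S) :
    incl (R := R) h (algebraMap S (Localization.Away g) s) = algebraMap S (Localization.Away g') s :=
  liftA_algebraMap _ _ _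

/-- The canonical map to the local ring. -/
noncomputable def toLoc (q : Ideal S) [q.IsPrime] {g : S} (h : g ∉ q) :
    Localization.Away g →ₐ[R] Localization.AtPrime q :=
  liftA (IsScalarTower.toAlgHom R S _) (IsLocalization.map_units _ (⟨g, h⟩ : q.primeCompl))

theorem toLoc_algebraMap (q : Ideal S) [q.IsPrime] {g : S} (h : g ∉ q) (s : S) :
    toLoc (R := R) q h (algebraMap S (Localization.Away g) s) = algebraMap S (Localization.AtPrime q) s :=
  liftA_algebraMap _ _ _

theorem toLoc_comp_incl (q : Ideal S) [q.IsPrime] {g g' : S} (hd : g ∣ g') (hg : g ∉ q) (hg' : g' ∉ q)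
    (z : Localization.Away g) : toLoc (R := R) q hg' (incl (R := R) hd z) = toLoc (R := R) q hg z := by
  have : (toLoc (R := R) q hg').comp (incl hd) = toLoc q hg :=
    hom_ext fun s => by simp [incl_algebraMap, toLoc_algebraMap]
  exact DFunLike.congr_fun this z

theorem exists_kill (q : Ideal S) [q.IsPrime] {g : S} (hg : g ∉ q) (z : Localization.Away g)
    (hz : toLoc (R := R) q hg z = 0) :
    ∃ h, h ∉ q ∧ ∀ g' (hd : g ∣ g'), h ∣ g' → incl (R := R) hd z = 0 := by
  obtain ⟨n, s, hs⟩ := IsLocalization.Away.surj g z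
  have h0 : algebraMap S (Localization.AtPrime q) s = 0 := by
    rw [← toLoc_algebraMap (R := R) q hg, ← hs, map_mul, hz, zero_mul]
  obtain ⟨⟨h, hh⟩, hhs⟩ := (IsLocalization.map_eq_zero_iff q.primeCompl _ s).1 h0
  refine ⟨h, hh, fun g' hd hhd => ?_⟩
  have h1 : algebraMap S (Localization.Away g') s = 0 := by
    have hu := isUnit_of_dvd_unit (map_dvd (algebraMap S (Localization.Away g')) hhd)
      (IsLocalization.Away.algebraMap_isUnit g')
    rw [← hu.mul_right_eq_zero, ← map_mul, hhs, map_zero]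
  have := congrArg (incl (R := R) hd) hs
  rw [map_mul, map_pow, incl_algebraMap, incl_algebraMap, h1] at this
  exact ((isUnit_of_dvd_unit (map_dvd (algebraMap S (Localization.Away g')) hd)
    (IsLocalization.Away.algebraMap_isUnit g')).pow n).mul_left_eq_zero.1 this

theorem exists_kill_finset (q : Ideal S) [q.IsPrime] {g : S} (hg : g ∉ q) (Z : Finset (Localization.Away g))
    (hz : ∀ z ∈ Z, toLoc (R := R) q hg z = 0) :
    ∃ g', g' ∉ q ∧ ∃ hd : g ∣ g', ∀ z ∈ Z, incl (R := R) hd z = 0 := by
  classical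
  choose h hq hk using fun z : Z => exists_kill q hg z.1 (hz z.1 z.2)
  refine ⟨g * ∏ z, h z, q.primeCompl.mul_mem hg (prod_mem fun z _ => hq z), dvd_mul_right _ _, fun z hz' => ?_⟩
  exact hk ⟨z, hz'⟩ _ (dvd_mul_right _ _) (Dvd.dvd.mul_left (Finset.dvd_prod_of_mem h (Finset.mem_univ _)) g)

/-- Two maps from a finitely generated algebra agreeing at `q` agree near `q`. -/
theorem exists_eq [Algebra.FiniteType R T] (q : Ideal S) [q.IsPrime] {g : S} (hg : g ∉ q)
    (φ ψ : T →ₐ[R] Localization.Away g) (h : ∀ t, toLoc (R := R) q hg (φ t) = toLoc (R := R) q hg (ψ t)) :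
    ∃ g', g' ∉ q ∧ ∃ hd : g ∣ g', (incl (R := R) hd).comp φ = (incl (R := R) hd).comp ψ := by
  classical
  obtain ⟨s, hs⟩ := Algebra.FiniteType.out (R := R) (A := T)
  obtain ⟨g', hg', hd, hk⟩ := exists_kill_finset (R := R) q hg (s.image fun t => φ t - ψ t) (fun z hz => by
    obtain ⟨t, -, rfl⟩ := Finset.mem_image.1 hz
    rw [map_sub, h, sub_self])
  refine ⟨g', hg', hd, AlgHom.ext_of_adjoin_eq_top hs fun t ht => ?_⟩
  have := hk _ (Finset.mem_image_of_mem _ ht)
  rwa [map_sub, sub_eq_zero] at this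

/-- A map from a finitely presented algebra to `S_q` comes from a map to some `S_g`. -/
theorem exists_lift [Algebra.FinitePresentation R T] (q : Ideal S) [q.IsPrime]
    (φ : T →ₐ[R] Localization.AtPrime q) :
    ∃ g, ∃ hg : g ∉ q, ∃ ψ : T →ₐ[R] Localization.Away g, ∀ t, toLoc (R := R) q hg (ψ t) = φ t := by
  classical
  obtain ⟨n, π, hπ, rels, hrels⟩ := Algebra.FinitePresentation.out (R := R) (A := T)
  choose a hab using fun i => IsLocalization.surj q.primeCompl (φ (π (MvPolynomial.X i)))
  let g : S := ∏ i, ((a i).2 : S)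
  have hg : g ∉ q := show g ∈ q.primeCompl from prod_mem fun i _ => (a i).2.2
  have hdvd : ∀ i, ((a i).2 : S) ∣ g := fun i => Finset.dvd_prod_of_mem _ (Finset.mem_univ i)
  have hu : ∀ i, IsUnit (algebraMap S (Localization.Away g) ((a i).2 : S)) := fun i =>
    isUnit_of_dvd_unit (map_dvd _ (hdvd i)) (IsLocalization.Away.algebraMap_isUnit g)
  let ψ₀ : MvPolynomial (Fin n) R →ₐ[R] Localization.Away g :=
    MvPolynomial.aeval fun i => algebraMap S (Localization.Away g) (a i).1 * ↑(hu i).unit⁻¹
  have hψ₀ : (toLoc (R := R) q hg).comp ψ₀ = φ.comp π := MvPolynomial.algHom_ext fun i => by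
    apply (IsLocalization.map_units (Localization.AtPrime q) (a i).2).mul_left_inj.1
    rw [AlgHom.comp_apply, AlgHom.comp_apply, hab, ← toLoc_algebraMap (R := R) q hg ((a i).2 : S), ← map_mul,
      MvPolynomial.aeval_X, mul_assoc, IsUnit.val_inv_mul, mul_one, toLoc_algebraMap]
  obtain ⟨g', hg', hd, hk⟩ := exists_kill_finset (R := R) q hg (rels.image ψ₀) (fun z hz => by
    obtain ⟨r, hr, rfl⟩ := Finset.mem_image.1 hz
    rw [← AlgHom.comp_apply, hψ₀, AlgHom.comp_apply]
    have : r ∈ RingHom.ker π.toRingHom := hrels ▸ Ideal.subset_span hr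
    rw [show π r = 0 from this, map_zero])
  have hker : RingHom.ker π ≤ RingHom.ker ((incl (R := R) hd).comp ψ₀) := by
    show RingHom.ker π.toRingHom ≤ _
    rw [← hrels, Ideal.span_le]
    exact fun r hr => hk _ (Finset.mem_image_of_mem _ hr)
  refine ⟨g', hg', AlgHom.liftOfSurjective _ hπ _ hker, fun t => ?_⟩
  obtain ⟨p, rfl⟩ := hπ t
  rw [AlgHom.liftOfSurjective_apply, AlgHom.comp_apply, toLoc_comp_incl q hd hg hg']
  exact DFunLike.congr_fun hψ₀ p

/-- Isomorphic local rings of finitely presented algebras give isomorphic neighbourhoods. -/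
theorem exists_iso [Algebra.FinitePresentation R S] [Algebra.FinitePresentation R T]
    (q : Ideal S) [q.IsPrime] (q' : Ideal T) [q'.IsPrime]
    (e : Localization.AtPrime q ≃ₐ[R] Localization.AtPrime q') :
    ∃ (g : S) (g' : T), g ∉ q ∧ g' ∉ q' ∧ Nonempty (Localization.Away g ≃ₐ[R] Localization.Away g') := by
  obtain ⟨g', hg', α, hα⟩ := exists_lift (R := R) q' (e.toAlgHom.comp (IsScalarTower.toAlgHom R S _) : S →ₐ[R] _)
  obtain ⟨g, hg, β, hβ⟩ := exists_lift (R := R) q (e.symm.toAlgHom.comp (IsScalarTower.toAlgHom R T _) : T →ₐ[R] _)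
  obtain ⟨k, t, ht⟩ := IsLocalization.Away.surj g (β g')
  have htq : t ∉ q := by
    intro hmem
    have h1 := congrArg (toLoc (R := R) q hg) ht
    rw [map_mul, hβ, map_pow, toLoc_algebraMap, toLoc_algebraMap] at h1
    refine absurd hmem ((IsLocalization.AtPrime.isUnit_to_map_iff (Localization.AtPrime q) q t).1 ?_)
    rw [← h1]
    exact ((IsLocalization.map_units (Localization.AtPrime q') (⟨g', hg'⟩ : q'.primeCompl)).map e.symm).mul
      ((IsLocalization.map_units (Localization.AtPrime q) (⟨g, hg⟩ : q.primeCompl)).pow k)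
  let β₁ : T →ₐ[R] Localization.Away (g * t) := (incl (dvd_mul_right g t)).comp β
  have hgt : g * t ∉ q := q.primeCompl.mul_mem hg htq
  have hu₁ : IsUnit (β₁ g') := by
    have h1 := congrArg (incl (R := R) (dvd_mul_right g t)) ht
    rw [map_mul, map_pow, incl_algebraMap, incl_algebraMap] at h1
    exact isUnit_of_mul_isUnit_left (h1 ▸ isUnit_of_dvd_unit (map_dvd _ (dvd_mul_left t g)) (IsLocalization.Away.algebraMap_isUnit (g * t)))
  let β₂ : Localization.Away g' →ₐ[R] Localization.Away (g * t) := liftA β₁ hu₁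
  have hβ₂ : ∀ z, toLoc (R := R) q hgt (β₂ z) = e.symm (toLoc (R := R) q' hg' z) := by
    have : (toLoc (R := R) q hgt).comp β₂ = e.symm.toAlgHom.comp (toLoc q' hg') := hom_ext fun s => by
      simp [β₂, β₁, liftA_algebraMap, toLoc_comp_incl q (dvd_mul_right g t) hg hgt, hβ, toLoc_algebraMap]
    exact fun z => DFunLike.congr_fun this z
  obtain ⟨h₀, hh₀, hd₀, hk₀⟩ := exists_eq (R := R) q hgt (β₂.comp α) (IsScalarTower.toAlgHom R S _) fun s => by
    rw [AlgHom.comp_apply, hβ₂, hα]
    simp [toLoc_algebraMap]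
  let β₃ : Localization.Away g' →ₐ[R] Localization.Away h₀ := (incl hd₀).comp β₂
  have hβα : ∀ s, β₃ (α s) = algebraMap S (Localization.Away h₀) s := fun s => by
    have := DFunLike.congr_fun hk₀ s
    simpa [β₃, incl_algebraMap] using this
  obtain ⟨k', t', ht'⟩ := IsLocalization.Away.surj g' (α h₀)
  have ht'q : t' ∉ q' := by
    intro hmem
    have h1 := congrArg (toLoc (R := R) q' hg') ht'
    rw [map_mul, hα, map_pow, toLoc_algebraMap, toLoc_algebraMap] at h1
    refine absurd hmem ((IsLocalization.AtPrime.isUnit_to_map_iff (Localization.AtPrime q') q' t').1 ?_)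
    rw [← h1]
    exact ((IsLocalization.map_units (Localization.AtPrime q) (⟨h₀, hh₀⟩ : q.primeCompl)).map e).mul
      ((IsLocalization.map_units (Localization.AtPrime q') (⟨g', hg'⟩ : q'.primeCompl)).pow k')
  have hg't : g' * t' ∉ q' := q'.primeCompl.mul_mem hg' ht'q
  let α₁ : S →ₐ[R] Localization.Away (g' * t') := (incl (dvd_mul_right g' t')).comp α
  have hu₂ : IsUnit (α₁ h₀) := by
    have h1 := congrArg (incl (R := R) (dvd_mul_right g' t')) ht'
    rw [map_mul, map_pow, incl_algebraMap, incl_algebraMap] at h1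
    exact isUnit_of_mul_isUnit_left (h1 ▸ isUnit_of_dvd_unit (map_dvd _ (dvd_mul_left t' g')) (IsLocalization.Away.algebraMap_isUnit (g' * t')))
  let α₂ : Localization.Away h₀ →ₐ[R] Localization.Away (g' * t') := liftA α₁ hu₂
  have hα₂ : ∀ z, toLoc (R := R) q' hg't (α₂ z) = e (toLoc (R := R) q hh₀ z) := by
    have : (toLoc (R := R) q' hg't).comp α₂ = e.toAlgHom.comp (toLoc q hh₀) := hom_ext fun s => by
      simp [α₂, α₁, liftA_algebraMap, toLoc_comp_incl q' (dvd_mul_right g' t') hg' hg't, hα, toLoc_algebraMap]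
    exact fun z => DFunLike.congr_fun this z
  obtain ⟨g₁, hg₁, hd₁, hk₁⟩ := exists_eq (R := R) q' hg't
      (α₂.comp (β₃.comp (IsScalarTower.toAlgHom R T (Localization.Away g')))) (IsScalarTower.toAlgHom R T _) fun s => by
    simp only [AlgHom.comp_apply, IsScalarTower.coe_toAlgHom']
    rw [hα₂, show β₃ (algebraMap T (Localization.Away g') s) = incl (R := R) hd₀ (β₂ (algebraMap T _ s)) from rfl,
      toLoc_comp_incl q hd₀ hgt hh₀, hβ₂, e.apply_symm_apply, toLoc_algebraMap, toLoc_algebraMap]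
  let α₃ : Localization.Away h₀ →ₐ[R] Localization.Away g₁ := (incl hd₁).comp α₂
  have hαβ : ∀ s, α₃ (β₃ (algebraMap T (Localization.Away g') s)) = algebraMap T (Localization.Away g₁) s := fun s => by
    have := DFunLike.congr_fun hk₁ s
    simpa [α₃, incl_algebraMap] using this
  let b : T →ₐ[R] Localization.Away h₀ := β₃.comp (IsScalarTower.toAlgHom R T (Localization.Away g'))
  have hαb : ∀ s, α₃ (b s) = algebraMap T (Localization.Away g₁) s := hαβ
  obtain ⟨k₂, h₁, hh₁⟩ := IsLocalization.Away.surj h₀ (b g₁)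
  have hh₁q : h₁ ∉ q := by
    intro hmem
    have h1 := congrArg (toLoc (R := R) q hh₀) hh₁
    rw [map_mul, map_pow, toLoc_algebraMap, toLoc_algebraMap] at h1
    refine absurd hmem ((IsLocalization.AtPrime.isUnit_to_map_iff (Localization.AtPrime q) q h₁).1 ?_)
    rw [← h1, show b g₁ = incl (R := R) hd₀ (β₂ (algebraMap T _ g₁)) from rfl, toLoc_comp_incl q hd₀ hgt hh₀, hβ₂,
      toLoc_algebraMap]
    exact ((IsLocalization.map_units (Localization.AtPrime q') (⟨g₁, hg₁⟩ : q'.primeCompl)).map e.symm).mul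
      ((IsLocalization.map_units (Localization.AtPrime q) (⟨h₀, hh₀⟩ : q.primeCompl)).pow k₂)
  have hu₃ : IsUnit (incl (R := R) (dvd_mul_right h₀ h₁) (b g₁)) := by
    have h1 := congrArg (incl (R := R) (dvd_mul_right h₀ h₁)) hh₁
    rw [map_mul, map_pow, incl_algebraMap, incl_algebraMap] at h1
    exact isUnit_of_mul_isUnit_left (h1 ▸ isUnit_of_dvd_unit (map_dvd _ (dvd_mul_left h₁ h₀)) (IsLocalization.Away.algebraMap_isUnit (h₀ * h₁)))
  let B : Localization.Away g₁ →ₐ[R] Localization.Away (h₀ * h₁) := liftA ((incl (dvd_mul_right h₀ h₁)).comp b) hu₃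
  let a : S →ₐ[R] Localization.Away g₁ := α₃.comp (IsScalarTower.toAlgHom R S (Localization.Away h₀))
  have hu₄ : IsUnit (a (h₀ * h₁)) := by
    rw [map_mul]
    have h00 : IsUnit (a h₀) := (IsLocalization.Away.algebraMap_isUnit h₀).map α₃
    refine h00.mul ?_
    show IsUnit (α₃ (algebraMap S (Localization.Away h₀) h₁))
    rw [← hh₁, map_mul, map_pow, hαb]
    exact (IsLocalization.Away.algebraMap_isUnit g₁).mul (h00.pow k₂)
  let A : Localization.Away (h₀ * h₁) →ₐ[R] Localization.Away g₁ := liftA a hu₄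
  have hA : ∀ z, A (incl (R := R) (dvd_mul_right h₀ h₁) z) = α₃ z := by
    have : A.comp (incl (dvd_mul_right h₀ h₁)) = α₃ := hom_ext fun s => by
      simp [A, a, incl_algebraMap, liftA_algebraMap]
    exact fun z => DFunLike.congr_fun this z
  have hB : ∀ z, B (incl (R := R) hd₁ (incl (R := R) (dvd_mul_right g' t') z)) = incl (R := R) (dvd_mul_right h₀ h₁) (β₃ z) := by
    have : B.comp ((incl hd₁).comp (incl (dvd_mul_right g' t'))) = (incl (dvd_mul_right h₀ h₁)).comp β₃ := hom_ext fun s => by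
      simp [B, b, incl_algebraMap, liftA_algebraMap]
    exact fun z => DFunLike.congr_fun this z
  refine ⟨h₀ * h₁, g₁, q.primeCompl.mul_mem hh₀ hh₁q, hg₁, ⟨AlgEquiv.ofAlgHom A B (hom_ext fun s => ?_) (hom_ext fun s => ?_)⟩⟩
  · simp only [AlgHom.comp_apply, AlgHom.coe_id, id_eq]
    rw [liftA_algebraMap, AlgHom.comp_apply, hA, hαb]
  · simp only [AlgHom.comp_apply, AlgHom.coe_id, id_eq]
    rw [liftA_algebraMap]
    simp only [a, α₃, α₂, α₁, AlgHom.comp_apply, IsScalarTower.coe_toAlgHom', liftA_algebraMap]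
    rw [hB, hβα, incl_algebraMap]

end Groth.Agent.CAlgH2.SpreadOut
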