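import Mathlib.RingTheory.Flat.Basic
import Mathlib.RingTheory.LocalRing.Module
import Groth.Prelude.Def_CAlgX

namespace Groth.Agent.CAlgH2

open Function TensorProduct

universe u

variable {R : Type u} [CommRing R] {M₁ M₂ M₃ : Type u} [AddCommGroup M₁] [Module R M₁]
  [AddCommGroup M₂] [Module R M₂] [AddCommGroup M₃] [Module R M₃]
  {f : M₁ →ₗ[R] M₂} {g : M₂ →ₗ[R] M₃}

theorem flat_of_flat_of_rTensor_quotient_injective [Module.Flat R M₂] (hexact : Exact f g)
    (hg : Surjective g) (hf : ∀ I : Ideal R, I.FG → Injective (f.rTensor (R ⧸ I))) :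
    Module.Flat R M₃ := by
  refine Module.Flat.iff_lTensor_injective.2 fun I hI => ?_
  exact lTensor_injective_of_exact_of_exact_of_rTensor_injective hexact hg
    (g₁ := I.subtype) (g₂ := I.mkQ) (LinearMap.exact_subtype_mkQ I)
    (Submodule.mkQ_surjective _) (hf I hI)
    (Module.Flat.lTensor_preserves_injective_linearMap _ Subtype.val_injective)

theorem flat_coker_of_universallyInjective [Module.Flat R M₂] (hexact : Exact f g)
    (hg : Surjective g) (hf : CAlgX.UniversallyInjective R f) : Module.Flat R M₃ :=
  flat_of_flat_of_rTensor_quotient_injective hexact hg fun _ _ => hf _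

theorem rTensor_injective_of_flat_coker [Module.Flat R M₃] (hexact : Exact f g)
    (hg : Surjective g) (hf : Injective f) {K F Q : Type u} [AddCommGroup K] [Module R K]
    [AddCommGroup F] [Module R F] [AddCommGroup Q] [Module R Q] [Module.Flat R F] (i : K →ₗ[R] F)
    (π : F →ₗ[R] Q) (hi : Injective i) (hk : Exact i π) (hπ : Surjective π) :
    Injective (f.rTensor Q) :=
  (LinearMap.lTensor_inj_iff_rTensor_inj Q f).1 <|
    lTensor_injective_of_exact_of_exact_of_rTensor_injective hk hπ hexact hg
      (Module.Flat.rTensor_preserves_injective_linearMap i hi)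
      (Module.Flat.lTensor_preserves_injective_linearMap f hf)

theorem universallyInjective_of_flat_coker [Module.Flat R M₃] (hexact : Exact f g)
    (hg : Surjective g) (hf : Injective f) : CAlgX.UniversallyInjective R f := by
  intro Q _ _
  have key : ∀ (F : Type u) [AddCommGroup F] [Module R F] [Module.Flat R F] (π : F →ₗ[R] Q),
      Surjective π → Injective (f.rTensor Q) := fun F _ _ _ π hπ =>
    rTensor_injective_of_flat_coker hexact hg hf (LinearMap.ker π).subtype π
      Subtype.val_injective π.exact_subtype_ker_map hπ
  exact key _ _ (Finsupp.linearCombination_id_surjective R Q)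

theorem flat_left_of_universallyInjective [Module.Flat R M₂] (hf : CAlgX.UniversallyInjective R f) :
    Module.Flat R M₁ := by
  refine Module.Flat.iff_lTensor_injective.2 fun I _ => ?_
  have h1 : Injective (f.rTensor I) := hf I
  have h2 : Injective (I.subtype.lTensor M₂) :=
    Module.Flat.lTensor_preserves_injective_linearMap _ Subtype.val_injective
  refine Injective.of_comp (f := f.rTensor R) ?_
  rw [← LinearMap.coe_comp, LinearMap.rTensor_comp_lTensor, ← LinearMap.lTensor_comp_rTensor,
    LinearMap.coe_comp]
  exact h2.comp h1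

theorem flat_middle [Module.Flat R M₁] [Module.Flat R M₃] (hf : Injective f) (hexact : Exact f g)
    (hg : Surjective g) : Module.Flat R M₂ := by
  refine Module.Flat.iff_lTensor_injective.2 fun I _ => (injective_iff_map_eq_zero _).2 fun x hx => ?_
  have hc : ∀ {A B : Type u} [AddCommGroup A] [Module R A] [AddCommGroup B] [Module R B]
      (φ : A →ₗ[R] B) (y : A ⊗[R] I),
      I.subtype.lTensor B (φ.rTensor I y) = φ.rTensor R (I.subtype.lTensor A y) := by
    intro A B _ _ _ _ φ y
    rw [← LinearMap.comp_apply, LinearMap.lTensor_comp_rTensor, ← LinearMap.rTensor_comp_lTensor,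
      LinearMap.comp_apply]
  have h3 : g.rTensor I x = 0 := by
    apply Module.Flat.lTensor_preserves_injective_linearMap I.subtype Subtype.val_injective
    rw [hc, hx, map_zero, map_zero]
  obtain ⟨z, rfl⟩ := (rTensor_exact I hexact hg x).1 h3
  have : I.subtype.lTensor M₁ z = 0 := by
    apply Module.Flat.rTensor_preserves_injective_linearMap f hf
    rw [← hc, hx, map_zero]
  have hz : z = 0 := Module.Flat.lTensor_preserves_injective_linearMap (M := M₁) I.subtype
    Subtype.val_injective (this.trans (map_zero _).symm)
  rw [hz, map_zero]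

end Groth.Agent.CAlgH2
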